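import Mathlib
import Cfsg.Agent.Blocks.HomocyclicFourier

/-!
# The functions `2 - l - l⁻¹` on a finite abelian group
-/

set_option autoImplicit false
set_option linter.unusedSectionVars false
set_option linter.style.haveILetI false

namespace Cfsg.Lib.SmithTyrer

open Cfsg.Lib.Blocks.Homocyclic
open scoped ComplexConjugate

attribute [local instance high] MonoidHom.instCommGroup

local instance (priority := high) stMul {A : Type*} [CommGroup A] : Mul (A →* ℂˣ) :=
  (MonoidHom.instCommGroup : CommGroup (A →* ℂˣ)).toMul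

local instance (priority := high) stInv {A : Type*} [CommGroup A] : Inv (A →* ℂˣ) :=
  (MonoidHom.instCommGroup : CommGroup (A →* ℂˣ)).toInv

local instance (priority := high) stOne {A : Type*} [CommGroup A] : One (A →* ℂˣ) :=
  (MonoidHom.instCommGroup : CommGroup (A →* ℂˣ)).toMonoid.toMulOneClass.toOne

local instance (priority := high) stComm {A : Type*} [CommGroup A] : CommMonoid (A →* ℂˣ) :=
  (MonoidHom.instCommGroup : CommGroup (A →* ℂˣ)).toCommMonoid

local instance (priority := high) stDiv {A : Type*} [CommGroup A] :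
    DivisionCommMonoid (A →* ℂˣ) :=
  (MonoidHom.instCommGroup : CommGroup (A →* ℂˣ)).toDivisionCommMonoid

variable {A : Type*} [CommGroup A] [Fintype A] [Fintype (A →* ℂˣ)] [DecidableEq (A →* ℂˣ)]

/-- The even function `2 - l - l⁻¹`. -/
noncomputable def be (l : A →* ℂˣ) (x : A) : ℂ := 2 - (l x : ℂ) - ((l⁻¹ : A →* ℂˣ) x : ℂ)

lemma be_at_one (l : A →* ℂˣ) : be l 1 = 0 := by simp [be]; norm_num

lemma be_inv_arg (l : A →* ℂˣ) (x : A) : be l x⁻¹ = be l x := by
  simp only [be, map_inv, inv_app, inv_inv]; ring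

lemma be_inv_char (l : A →* ℂˣ) (x : A) : be l⁻¹ x = be l x := by
  simp only [be, inv_inv]; ring

lemma conj_be (l : A →* ℂˣ) (x : A) : conj (be l x) = be l x := by
  simp only [be, map_sub, conj_val, inv_inv, map_ofNat]; ring

lemma sum_be {l : A →* ℂˣ} (hl : l ≠ 1) : ∑ x : A, be l x = 2 * Fintype.card A := by
  simp only [be, Finset.sum_sub_distrib, sum_elems, if_neg hl, if_neg (inv_ne_one.2 hl),
    Finset.sum_const, Finset.card_univ, nsmul_eq_mul]
  ring

lemma sum_be_mul {l k : A →* ℂˣ} (hl : l ≠ 1) (hk : k ≠ 1) :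
    ∑ x : A, be l x * be k x = (Fintype.card A : ℂ) *
      (4 + (if l = k then 2 else 0) + (if l * k = 1 then 2 else 0)) := by
  have h : ∀ x : A, be l x * be k x = 4 - 2 * (l x : ℂ) - 2 * ((l⁻¹ : A →* ℂˣ) x : ℂ) -
      2 * (k x : ℂ) - 2 * ((k⁻¹ : A →* ℂˣ) x : ℂ) + ((l * k) x : ℂ) +
      (((l * k)⁻¹ : A →* ℂˣ) x : ℂ) + ((l * k⁻¹) x : ℂ) + (((l * k⁻¹)⁻¹ : A →* ℂˣ) x : ℂ) :=
    fun x => by
      simp only [be, mul_app, inv_app, Units.val_mul, mul_inv_rev, inv_inv]
      ring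
  simp only [h, Finset.sum_add_distrib, Finset.sum_sub_distrib, ← Finset.mul_sum, sum_elems,
    if_neg hl, if_neg hk, inv_eq_one,
    Finset.sum_const, Finset.card_univ, nsmul_eq_mul, mul_inv_eq_one]
  split_ifs <;> ring

lemma fourier [DecidableEq A] (F : A → ℂ) {y : A} (hy : y ≠ 1) :
    ∑ l : A →* ℂˣ, (∑ x : A, F x * be l x) * (l y : ℂ) =
      -(Fintype.card A : ℂ) * (F y + F y⁻¹) := by
  have h1 : ∀ x : A, ∑ l : A →* ℂˣ, be l x * (l y : ℂ) =
      -(if x = y⁻¹ then (Fintype.card A : ℂ) else 0) -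
        (if x = y then (Fintype.card A : ℂ) else 0) := fun x => by
    have h : ∀ l : A →* ℂˣ, be l x * (l y : ℂ) =
        2 * (l y : ℂ) - (l (x * y) : ℂ) - (l (x⁻¹ * y) : ℂ) := fun l => by
      simp only [be, inv_app, map_mul, map_inv, Units.val_mul]
      ring
    simp only [h, Finset.sum_sub_distrib, ← Finset.mul_sum, sum_chars, if_neg hy,
      mul_eq_one_iff_eq_inv, inv_inj]
    ring
  simp only [Finset.sum_mul]
  rw [Finset.sum_comm]
  simp only [mul_assoc, ← Finset.mul_sum, h1, mul_sub, mul_neg, mul_ite, mul_zero,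
    Finset.sum_sub_distrib, Finset.sum_neg_distrib, Finset.sum_ite_eq', Finset.mem_univ, if_true]
  ring

/-- Representatives of the pairs `{l, l⁻¹}`. -/
lemma exists_reps (hA : Odd (Fintype.card A)) :
    ∃ L : Finset (A →* ℂˣ), (∀ l ∈ L, l ≠ 1) ∧ (∀ l, l ≠ 1 → (l ∈ L ↔ l⁻¹ ∉ L)) ∧
      2 * L.card + 1 = Fintype.card A ∧
      ∀ x : A, x ≠ 1 → ∑ l ∈ L, ((l x : ℂ) + ((l⁻¹ : A →* ℂˣ) x : ℂ)) = -1 := by
  classical
  have hcard : Fintype.card (A →* ℂˣ) = Fintype.card A := by
    rw [← Nat.card_eq_fintype_card, ← Nat.card_eq_fintype_card,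
      CommGroup.card_monoidHom_of_hasEnoughRootsOfUnity]
  have hne : ∀ l : A →* ℂˣ, l ≠ 1 → l⁻¹ ≠ l := fun l hl h => hl <| by
    have h2 : l ^ 2 = 1 := by rw [pow_two]; nth_rewrite 1 [← h]; exact inv_mul_cancel l
    have h3 : l ^ Fintype.card A = 1 := by rw [← hcard]; exact pow_card_eq_one (x := l)
    obtain ⟨m, hm⟩ := hA
    rwa [hm, pow_succ, pow_mul, h2, one_pow, one_mul] at h3
  let e := Fintype.equivFin (A →* ℂˣ)
  let L : Finset (A →* ℂˣ) := Finset.univ.filter fun l => e l < e l⁻¹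
  have hmem : ∀ l, l ∈ L ↔ e l < e l⁻¹ := fun l => by simp [L]
  have hiff : ∀ l, l ≠ 1 → (l ∈ L ↔ l⁻¹ ∉ L) := fun l hl => by
    rw [hmem, hmem, inv_inv, not_lt]
    exact ⟨le_of_lt, fun h => lt_of_le_of_ne h fun he => hne l hl (e.injective he).symm⟩
  have hL1 : ∀ l ∈ L, l ≠ 1 := fun l hl h => by
    subst h
    have := (hmem _).1 hl
    simp at this
  have hdis : Disjoint L (L.map (Equiv.inv (A →* ℂˣ)).toEmbedding) := by
    rw [Finset.disjoint_left]
    intro l hl hl'
    obtain ⟨k, hk, rfl⟩ := Finset.mem_map.1 hl'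
    exact (hiff k (hL1 k hk)).1 hk hl
  have hunion : L ∪ L.map (Equiv.inv (A →* ℂˣ)).toEmbedding = Finset.univ.erase 1 := by
    ext l
    simp only [Finset.mem_union, Finset.mem_map, Equiv.coe_toEmbedding, Equiv.inv_apply,
      Finset.mem_erase, Finset.mem_univ, and_true]
    refine ⟨?_, fun hl => ?_⟩
    · rintro (h | ⟨k, hk, rfl⟩)
      · exact hL1 l h
      · exact inv_ne_one.2 (hL1 k hk)
    · by_cases h : l ∈ L
      · exact Or.inl h
      · exact Or.inr ⟨l⁻¹, by_contra fun h' => h ((hiff l hl).2 h'), inv_inv l⟩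
  refine ⟨L, hL1, hiff, ?_, fun x hx => ?_⟩
  · have h := congrArg Finset.card hunion
    rw [Finset.card_union_of_disjoint hdis, Finset.card_map, Finset.card_erase_of_mem
      (Finset.mem_univ _), Finset.card_univ, hcard] at h
    have := Fintype.card_pos (α := A)
    omega
  · have h : ∑ l ∈ Finset.univ.erase (1 : A →* ℂˣ), (l x : ℂ) = -1 := by
      rw [Finset.sum_erase_eq_sub (Finset.mem_univ _), sum_chars, if_neg hx, one_app]
      simp
    rw [← hunion, Finset.sum_union hdis, Finset.sum_map] at h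
    rw [Finset.sum_add_distrib]
    exact h

end Cfsg.Lib.SmithTyrer
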