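import Mathlib
import Cfsg.Prelude.Def_Local
import Cfsg.Agent.Blocks.PPart
import Cfsg.Agent.Chars.Irr
import Cfsg.Agent.Chars.Construct
import Cfsg.Agent.Components.Cores

/-!
# Abelian Sylow subgroups inverted by their normalizers

The centralizers of the non-identity elements of the Sylow subgroup have normal complements, and
sums over `p`-sections are averages over these complements.
-/

set_option autoImplicit false
set_option linter.unusedSectionVars false
set_option linter.style.haveILetI false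

namespace Cfsg.Lib.SmithTyrer

open Cfsg.Lib.Blocks Cfsg.Lib.Chars
open scoped Classical ComplexConjugate

universe u

variable {G : Type u} [Group G] [Fintype G] {p : ℕ} [hp : Fact p.Prime]

/-- The `p`-part of an element. -/
noncomputable def pp (p : ℕ) [Fact p.Prime] (g : G) : G :=
  (exists_isPPart' (p := p) Fact.out g).choose

lemma isPPart_pp (g : G) : IsPPart p g (pp p g) :=
  (exists_isPPart' (p := p) Fact.out g).choose_spec

lemma pp_unique {g x : G} (h : IsPPart p g x) : pp p g = x :=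
  IsPPart.eq hp.out (isPPart_pp g) h

lemma pp_pGroup (g : G) : ∃ k : ℕ, orderOf (pp p g) = p ^ k := by
  obtain ⟨y, -, -, h, -⟩ := isPPart_pp (p := p) g
  exact h

lemma pp_conj (g a : G) : pp p (a * g * a⁻¹) = a * pp p g * a⁻¹ :=
  pp_unique (IsPPart.conj (isPPart_pp g) a)

lemma pp_eq_one_iff {g : G} : pp p g = 1 ↔ ¬ p ∣ orderOf g := by
  refine ⟨fun h => ?_, fun h => pp_unique ⟨g, one_mul g, Commute.one_left g, ⟨0, by simp⟩, h⟩⟩
  obtain ⟨y, hy, -, -, hny⟩ := isPPart_pp (p := p) g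
  rw [h, one_mul] at hy
  rwa [← hy]

lemma pp_self {g : G} (h : ∃ k : ℕ, orderOf g = p ^ k) : pp p g = g :=
  pp_unique ⟨1, mul_one g, Commute.one_right g, h, by simpa using hp.out.ne_one⟩

lemma pp_mul {x v : G} (hx : ∃ k : ℕ, orderOf x = p ^ k) (hc : Commute x v)
    (hv : ¬ p ∣ orderOf v) : pp p (x * v) = x :=
  pp_unique ⟨v, rfl, hc, hx, hv⟩

/-- The `p`-regular elements commuting with `x`. -/
noncomputable def reg (p : ℕ) (x : G) : Finset G :=
  Finset.univ.filter fun v => Commute x v ∧ ¬ p ∣ orderOf v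

lemma mem_reg {x v : G} : v ∈ reg p x ↔ Commute x v ∧ ¬ p ∣ orderOf v := by simp [reg]

lemma one_mem_reg (x : G) : (1 : G) ∈ reg p x :=
  mem_reg.2 ⟨Commute.one_right x, by simpa using hp.out.ne_one⟩

lemma reg_card_ne (x : G) : ((reg p x).card : ℂ) ≠ 0 :=
  Nat.cast_ne_zero.2 (Finset.card_pos.2 ⟨1, one_mem_reg x⟩).ne'

/-- The section of `x`. -/
noncomputable def sec (p : ℕ) [Fact p.Prime] (x : G) : Finset G :=
  Finset.univ.filter fun g => IsConj x (pp p g)

/-- The average of `f` over the section of `x`. -/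
noncomputable def avg (p : ℕ) (f : G → ℂ) (x : G) : ℂ :=
  (∑ v ∈ reg p x, f (x * v)) / ((reg p x).card : ℂ)

/-- Counting conjugates: a section is swept out evenly by conjugation. -/
lemma card_mul_sum_reg {f : G → ℂ} (hf : IsClassFunction G f) {x : G}
    (hx : ∃ k : ℕ, orderOf x = p ^ k) :
    (Fintype.card G : ℂ) * ∑ v ∈ reg p x, f (x * v) =
      (Nat.card (Subgroup.centralizer ({x} : Set G)) : ℂ) * ∑ g ∈ sec p x, f g := by
  have h1 : (Fintype.card G : ℂ) * ∑ v ∈ reg p x, f (x * v) =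
      ∑ q ∈ (Finset.univ : Finset G) ×ˢ reg p x, f (q.1 * (x * q.2) * q.1⁻¹) := by
    rw [Finset.sum_product]
    simp only [hf _ _, Finset.sum_const, Finset.card_univ, nsmul_eq_mul]
  rw [h1, Finset.mul_sum, ← Finset.sum_fiberwise_of_maps_to
    (g := fun q : G × G => q.1 * (x * q.2) * q.1⁻¹) (t := sec p x) ?_]
  · refine Finset.sum_congr rfl fun g hg => ?_
    rw [Finset.sum_congr rfl fun q hq => by rw [(Finset.mem_filter.1 hq).2], Finset.sum_const,
      nsmul_eq_mul]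
    congr 1
    obtain ⟨a₀, ha₀⟩ := isConj_iff.1 (Finset.mem_filter.1 hg).2
    norm_cast
    have hmem : ∀ a : G, a * x * a⁻¹ = pp p g → (a, x⁻¹ * (a⁻¹ * g * a)) ∈
        ((Finset.univ : Finset G) ×ˢ reg p x).filter
          fun q => q.1 * (x * q.2) * q.1⁻¹ = g := by
      intro a ha
      obtain ⟨y, hy, hc, -, hny⟩ := isPPart_pp (p := p) g
      have he : x⁻¹ * (a⁻¹ * g * a) = a⁻¹ * y * a := by
        rw [← hy, ← ha]; group
      refine Finset.mem_filter.2 ⟨Finset.mem_product.2 ⟨Finset.mem_univ _, mem_reg.2 ⟨?_, ?_⟩⟩,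
        by group⟩
      · rw [he]
        have hxe : x = a⁻¹ * pp p g * a := by rw [← ha]; group
        have h3 := hc.map (MulAut.conj a⁻¹).toMonoidHom
        simpa [hxe, MulAut.conj_apply] using h3
      · rw [he, show a⁻¹ * y * a = MulAut.conj a⁻¹ y by simp, MulEquiv.orderOf_eq]
        exact hny
    rw [← Nat.card_eq_finsetCard]
    refine Nat.card_congr ⟨fun q => ⟨a₀⁻¹ * q.1.1, ?_⟩,
      fun c => ⟨_, hmem (a₀ * (c : G)) ?_⟩, fun q => ?_, fun c => ?_⟩
    · obtain ⟨hq1, hq2⟩ := Finset.mem_filter.1 q.2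
      obtain ⟨hc, hr⟩ := mem_reg.1 (Finset.mem_product.1 hq1).2
      have h2 := pp_conj (p := p) (x * q.1.2) q.1.1
      rw [hq2, pp_mul hx hc hr, ← ha₀] at h2
      rw [Subgroup.mem_centralizer_singleton_iff]
      calc a₀⁻¹ * q.1.1 * x = a₀⁻¹ * (q.1.1 * x * q.1.1⁻¹) * q.1.1 := by group
        _ = a₀⁻¹ * (a₀ * x * a₀⁻¹) * q.1.1 := by rw [h2]
        _ = x * (a₀⁻¹ * q.1.1) := by group
    · have hc := Subgroup.mem_centralizer_singleton_iff.1 c.2
      calc a₀ * (c : G) * x * (a₀ * c)⁻¹ = a₀ * ((c : G) * x) * (c : G)⁻¹ * a₀⁻¹ := by group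
        _ = pp p g := by rw [hc, ← ha₀]; group
    · obtain ⟨hq1, hq2⟩ := Finset.mem_filter.1 q.2
      refine Subtype.ext (Prod.ext ?_ ?_)
      · show a₀ * (a₀⁻¹ * q.1.1) = q.1.1
        group
      · show x⁻¹ * ((a₀ * (a₀⁻¹ * q.1.1))⁻¹ * g * (a₀ * (a₀⁻¹ * q.1.1))) = q.1.2
        have e : g = q.1.1 * (x * q.1.2) * q.1.1⁻¹ := hq2.symm
        calc _ = x⁻¹ * (q.1.1⁻¹ * g * q.1.1) := by group
          _ = x⁻¹ * (q.1.1⁻¹ * (q.1.1 * (x * q.1.2) * q.1.1⁻¹) * q.1.1) :=
            congrArg (fun z => x⁻¹ * (q.1.1⁻¹ * z * q.1.1)) e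
          _ = q.1.2 := by group
    · exact Subtype.ext (by show a₀⁻¹ * (a₀ * (c : G)) = c; group)
  · intro q hq
    obtain ⟨hc, hr⟩ := mem_reg.1 (Finset.mem_product.1 hq).2
    refine Finset.mem_filter.2 ⟨Finset.mem_univ _, ?_⟩
    rw [pp_conj, pp_mul hx hc hr]
    exact isConj_iff.2 ⟨q.1, rfl⟩

/-- An abelian Sylow subgroup inverted by `τ`, with no further automizer. -/
structure Setup (P : Sylow p G) (τ : G) : Prop where
  odd : p ≠ 2
  comm : ∀ x ∈ P, ∀ y ∈ P, x * y = y * x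
  mem : τ ∈ Subgroup.normalizer ((P : Subgroup G) : Set G)
  inverts : ∀ x ∈ P, τ * x * τ⁻¹ = x⁻¹
  norm : ∀ n ∈ Subgroup.normalizer ((P : Subgroup G) : Set G),
    n ∈ Subgroup.centralizer ((P : Subgroup G) : Set G) ∨
      τ⁻¹ * n ∈ Subgroup.centralizer ((P : Subgroup G) : Set G)

namespace Setup

variable {P : Sylow p G} {τ : G} (s : Setup P τ)

include s

lemma orderOf_pow {x : G} (hx : x ∈ P) : ∃ k : ℕ, orderOf x = p ^ k := by
  obtain ⟨k, hk⟩ := IsPGroup.iff_orderOf.1 P.2 ⟨x, hx⟩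
  exact ⟨k, by rw [← hk, ← Subgroup.orderOf_coe]⟩

lemma inv_ne {x : G} (hx : x ∈ P) (h1 : x ≠ 1) : x⁻¹ ≠ x := fun h => h1 <| by
  obtain ⟨k, hk⟩ := s.orderOf_pow hx
  have h2 : x ^ 2 = 1 := by rw [pow_two]; nth_rewrite 1 [← h]; exact inv_mul_cancel x
  have h3 : orderOf x ∣ 1 := by
    rw [← Nat.coprime_primes Nat.prime_two hp.out |>.mpr (Ne.symm s.odd) |>.pow_right k]
    exact Nat.dvd_gcd (orderOf_dvd_of_pow_eq_one h2) (hk ▸ dvd_refl _)
  exact orderOf_eq_one_iff.1 (Nat.dvd_one.1 h3)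

/-- Conjugation inside the normalizer is a sign. -/
lemma norm_conj {n : G} (hn : n ∈ Subgroup.normalizer ((P : Subgroup G) : Set G)) :
    (∀ x ∈ P, n * x * n⁻¹ = x) ∨ ∀ x ∈ P, n * x * n⁻¹ = x⁻¹ := by
  rcases s.norm n hn with h | h
  · exact Or.inl fun x hx => by
      rw [← (Subgroup.mem_centralizer_iff.1 h x hx : x * n = n * x), mul_inv_cancel_right]
  · refine Or.inr fun x hx => ?_
    have h2 : x * (τ⁻¹ * n) = τ⁻¹ * n * x := Subgroup.mem_centralizer_iff.1 h x hx
    calc n * x * n⁻¹ = τ * (τ⁻¹ * n * x) * (τ⁻¹ * n)⁻¹ * τ⁻¹ := by group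
      _ = τ * x * τ⁻¹ := by rw [← h2]; group
      _ = x⁻¹ := s.inverts x hx

lemma fusion {x g : G} (hx : x ∈ P) (hg : g * x * g⁻¹ ∈ P) :
    g * x * g⁻¹ = x ∨ g * x * g⁻¹ = x⁻¹ := by
  haveI : IsMulCommutative (P : Subgroup G) :=
    ⟨⟨fun a b => Subtype.ext (s.comm a a.2 b b.2)⟩⟩
  obtain ⟨n, hn, h⟩ := P.conj_eq_normalizer_conj_of_mem x g⁻¹ hx (by simpa using hg)
  simp only [inv_inv] at h
  rw [h]
  rcases s.norm_conj (inv_mem hn) with h' | h'
  · exact Or.inl (by simpa using h' x hx)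
  · exact Or.inr (by simpa using h' x hx)

lemma isConj_iff_sign {x y : G} (hx : x ∈ P) (hy : y ∈ P) :
    IsConj x y ↔ y = x ∨ y = x⁻¹ := by
  refine ⟨fun h => ?_, fun h => ?_⟩
  · obtain ⟨g, rfl⟩ := isConj_iff.1 h
    exact s.fusion hx hy
  · rcases h with rfl | rfl
    · exact IsConj.refl _
    · exact isConj_iff.2 ⟨τ, s.inverts x hx⟩

lemma exists_conj_mem {g : G} (hg : ∃ k : ℕ, orderOf g = p ^ k) :
    ∃ x ∈ (P : Subgroup G), IsConj x g := by
  obtain ⟨k, hk⟩ := hg
  have h1 : IsPGroup p (Subgroup.zpowers g) :=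
    IsPGroup.of_card (n := k) (by rw [Nat.card_zpowers, hk])
  obtain ⟨Q, hQ⟩ := h1.exists_le_sylow
  obtain ⟨a, ha⟩ := MulAction.exists_smul_eq G Q P
  refine ⟨a * g * a⁻¹, ?_, (isConj_iff.2 ⟨a, rfl⟩ : IsConj g (a * g * a⁻¹)).symm⟩
  rw [← ha, Sylow.coe_subgroup_smul]
  exact ⟨g, hQ (Subgroup.mem_zpowers g), rfl⟩

/-- The regular elements centralizing a non-identity element form a normal complement. -/
lemma reg_spec {x : G} (hx : x ∈ P) (h1 : x ≠ 1) :
    (∀ v ∈ reg p x, v ∈ centralizerPPrimeCore p x) ∧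
      Nat.card (Subgroup.centralizer ({x} : Set G)) = (reg p x).card * Nat.card P := by
  set C := Subgroup.centralizer ({x} : Set G) with hC
  have hPC : (P : Subgroup G) ≤ C := fun y hy =>
    Subgroup.mem_centralizer_singleton_iff.2 (s.comm y hy x hx)
  let P' : Sylow p C := P.subtype hPC
  have hP' : (P' : Subgroup C) = (P : Subgroup G).subgroupOf C := Sylow.coe_subtype P hPC
  have hNC : Subgroup.normalizer ((P' : Subgroup C) : Set C) ≤
      Subgroup.centralizer ((P' : Subgroup C) : Set C) := by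
    intro n hn
    rw [hP'] at hn ⊢
    have hn' : (n : G) ∈ Subgroup.normalizer ((P : Subgroup G) : Set G) := by
      rw [Subgroup.mem_normalizer_iff]
      intro y
      constructor
      · intro hy
        have := (Subgroup.mem_normalizer_iff.1 hn ⟨y, hPC hy⟩).1 hy
        exact this
      · intro hy
        have hyC : y ∈ C := by
          have := mul_mem (mul_mem (inv_mem n.2) (hPC hy)) n.2
          simpa [mul_assoc] using this
        exact (Subgroup.mem_normalizer_iff.1 hn ⟨y, hyC⟩).2 hy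
    rcases s.norm_conj hn' with h | h
    · rw [Subgroup.mem_centralizer_iff]
      intro y hy
      refine Subtype.ext ?_
      have h2 := h (y : G) hy
      show (y : G) * (n : G) = (n : G) * y
      nth_rewrite 1 [← h2]
      group
    · exfalso
      have h2 := h x hx
      have h3 : (n : G) * x = x * n := Subgroup.mem_centralizer_singleton_iff.1 n.2
      rw [h3, mul_inv_cancel_right] at h2
      exact s.inv_ne hx h1 h2.symm
  set K := (MonoidHom.transferSylow P' hNC).ker with hK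
  have hcompl : K.IsComplement' (P' : Subgroup C) :=
    MonoidHom.ker_transferSylow_isComplement' P' hNC
  have hKcop : ¬ p ∣ Nat.card K := MonoidHom.not_dvd_card_ker_transferSylow P' hNC
  have hmemK : ∀ v : C, v ∈ K ↔ ¬ p ∣ orderOf v := fun v => by
    constructor
    · intro hv hd
      exact hKcop (hd.trans (Subgroup.orderOf_dvd_natCard K hv))
    · intro hv
      have h2 : orderOf (MonoidHom.transferSylow P' hNC v) ∣ orderOf v := orderOf_map_dvd _ v
      obtain ⟨k, hk⟩ := IsPGroup.iff_orderOf.1 P'.2 (MonoidHom.transferSylow P' hNC v)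
      rw [hk] at h2
      rcases Nat.eq_zero_or_pos k with h0 | h0
      · rw [h0, pow_zero, orderOf_eq_one_iff] at hk
        exact hk
      · exact absurd ((dvd_pow_self p h0.ne').trans h2) hv
  have hreg : ∀ v : G, v ∈ reg p x ↔ ∃ h : v ∈ C, (⟨v, h⟩ : C) ∈ K := fun v => by
    simp only [mem_reg, hmemK, Subgroup.orderOf_mk, hC, Subgroup.mem_centralizer_singleton_iff,
      exists_prop, Commute, SemiconjBy, eq_comm (a := x * v)]
  refine ⟨fun v hv => ?_, ?_⟩
  · obtain ⟨h, hvK⟩ := (hreg v).1 hv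
    exact ⟨⟨v, h⟩, Cfsg.Lib.Components.le_pPrimeCore (N := K)
      ((hp.out.coprime_iff_not_dvd.2 hKcop).symm) hvK, rfl⟩
  · have hc := hcompl.card_mul_card
    rw [hP', Nat.card_congr (Subgroup.subgroupOfEquivOfLe hPC).toEquiv] at hc
    rw [← hc, ← Nat.card_eq_finsetCard]
    congr 1
    exact Nat.card_congr ⟨fun v => ⟨(v.1 : G), (hreg _).2 ⟨v.1.2, v.2⟩⟩,
      fun v => ⟨⟨v.1, ((hreg v.1).1 v.2).1⟩, ((hreg v.1).1 v.2).2⟩,
      fun _ => rfl, fun _ => rfl⟩

/-- The sum over a section. -/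
lemma sum_sec {f : G → ℂ} (hf : IsClassFunction G f) {x : G} (hx : x ∈ P) (h1 : x ≠ 1) :
    (Nat.card P : ℂ) * ∑ g ∈ sec p x, f g = (Fintype.card G : ℂ) * avg p f x := by
  have h := card_mul_sum_reg hf (s.orderOf_pow hx)
  rw [(s.reg_spec hx h1).2, Nat.cast_mul] at h
  rw [avg]
  field_simp [reg_card_ne (p := p) x]
  linear_combination -h

end Setup

end Cfsg.Lib.SmithTyrer
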