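import Mathlib
import Cfsg.Agent.Blocks.PiSection
import Cfsg.Agent.Chars.Induced
import Cfsg.Agent.SmithTyrer.Setup

/-!
# Virtual characters given through `p`-parts

A stable virtual character of the `p`-subgroups extends to the group through `p`-parts. A virtual
character of a quotient by a central `p`-subgroup that vanishes on singular elements lifts with
any linear character of the central subgroup.
-/

set_option autoImplicit false
set_option linter.unusedSectionVars false
set_option linter.style.haveILetI false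

namespace Cfsg.Lib.SmithTyrer

open Cfsg.Lib.Blocks Cfsg.Lib.Chars
open scoped Classical ComplexConjugate

universe u

/-- The projections of a nilpotent group on its `p`-part and its `p'`-part. -/
lemma exists_projections {E : Type u} [Group E] [Fintype E] [Group.IsNilpotent E] (p : ℕ)
    [hp : Fact p.Prime] :
    ∃ a b : E →* E, (∀ e, a e * b e = e) ∧ (∀ e, Commute (a e) (b e)) ∧
      (∀ e, ∃ k : ℕ, orderOf (a e) = p ^ k) ∧ (∀ e, ¬ p ∣ orderOf (b e)) ∧
      (∀ e, a (a e) = a e) ∧ (∀ e, b (b e) = b e) ∧ (∀ e, a (b e) = 1) ∧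
      ∀ e, b (a e) = 1 := by
  obtain ⟨k, m, hm, hn⟩ :=
    Nat.exists_eq_pow_mul_and_not_dvd (Nat.card_pos (α := E)).ne' p hp.out.ne_one
  have hco : (p ^ k).Coprime m := ((hp.out.coprime_iff_not_dvd).2 hm).pow_left k
  obtain ⟨s, hs1, hs0⟩ := Nat.chineseRemainder hco 1 0
  obtain ⟨t, ht0, ht1⟩ := Nat.chineseRemainder hco 0 1
  have hord : ∀ e : E, orderOf e ∣ p ^ k * m := fun e => hn ▸ orderOf_dvd_natCard e
  have hid : ∀ (e : E) (n : ℕ), n ≡ 1 [MOD p ^ k * m] → e ^ n = e := fun e n h =>
    pow_eq_self_of_modEq_one (hord e) h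
  have hz : ∀ (e : E) (n : ℕ), n ≡ 0 [MOD p ^ k * m] → e ^ n = 1 := fun e n h =>
    pow_eq_one_of_modEq_zero (hord e) h
  have hjoin : ∀ {n r : ℕ}, n ≡ r [MOD p ^ k] → n ≡ r [MOD m] → n ≡ r [MOD p ^ k * m] :=
    fun h1 h2 => (Nat.modEq_and_modEq_iff_modEq_mul hco).1 ⟨h1, h2⟩
  refine ⟨MonoidHom.mk' (fun e => e ^ s)
      (mul_pow_of_isNilpotent (G := E) (m := m) (n := p ^ k) (dvd_of_eq (by rw [hn, mul_comm]))
        hco.symm hs0 hs1),
    MonoidHom.mk' (fun e => e ^ t)
      (mul_pow_of_isNilpotent (G := E) (m := p ^ k) (n := m) (dvd_of_eq hn) hco ht0 ht1),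
    fun e => ?_, fun e => (Commute.refl e).pow_pow s t, fun e => ?_, fun e => ?_, fun e => ?_,
    fun e => ?_, fun e => ?_, fun e => ?_⟩
  all_goals simp only [MonoidHom.mk'_apply]
  · rw [← pow_add]
    exact hid e _ (hjoin (by simpa using hs1.add ht0) (by simpa using hs0.add ht1))
  · have he : (e ^ s) ^ p ^ k = 1 := by
      rw [← pow_mul]
      exact hz e _ (hjoin (Nat.modEq_zero_iff_dvd.2 (dvd_mul_left _ _))
        (by simpa using hs0.mul_right (p ^ k)))
    obtain ⟨j, -, hj⟩ := (Nat.dvd_prime_pow hp.out).1 (orderOf_dvd_of_pow_eq_one he)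
    exact ⟨j, hj⟩
  · refine fun hd => hm (hd.trans (orderOf_dvd_of_pow_eq_one ?_))
    rw [← pow_mul]
    exact hz e _ (hjoin (by simpa using ht0.mul_right m)
      (Nat.modEq_zero_iff_dvd.2 (dvd_mul_left _ _)))
  · rw [← pow_mul]
    exact (pow_eq_pow_iff_modEq.2 ((hjoin (by simpa using (hs1.mul hs1).trans hs1.symm)
      (by simpa using (hs0.mul hs0).trans hs0.symm)).of_dvd (hord e)))
  · rw [← pow_mul]
    exact (pow_eq_pow_iff_modEq.2 ((hjoin (by simpa using (ht0.mul ht0).trans ht0.symm)
      (by simpa using (ht1.mul ht1).trans ht1.symm)).of_dvd (hord e)))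
  · rw [← pow_mul]
    exact hz e _ (hjoin (by simpa using ht0.mul hs1) (by simpa using ht1.mul hs0))
  · rw [← pow_mul]
    exact hz e _ (hjoin (by simpa using hs1.mul ht0) (by simpa using hs0.mul ht1))

variable {H : Type u} [Group H] [Fintype H] {p : ℕ} [hp : Fact p.Prime]

lemma pp_map {G : Type u} [Group G] [Fintype G] (π : H →* G) (h : H) :
    pp p (π h) = π (pp p h) := by
  obtain ⟨y, hy, hc, ⟨k, hk⟩, hny⟩ := isPPart_pp (p := p) h
  refine pp_unique ⟨π y, by rw [← map_mul, hy], hc.map π, ?_,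
    fun hd => hny (hd.trans (orderOf_map_dvd π y))⟩
  obtain ⟨j, -, hj⟩ := (Nat.dvd_prime_pow hp.out).1 (hk ▸ orderOf_map_dvd π (pp p h))
  exact ⟨j, hj⟩

/-- A function of the `p`-part that is a virtual character on every `p`-subgroup is one. -/
theorem gen_of_pp {f : H → ℂ} (hf : IsClassFunction H f) (hpp : ∀ g, f g = f (pp p g))
    (hQ : ∀ Q : Subgroup H, IsPGroup p Q → IsGeneralizedCharacter Q fun q : Q => f q) :
    IsGeneralizedCharacter H f := by
  refine isGeneralized_of_elementary hf fun E hE => ?_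
  obtain ⟨q, hq, hel⟩ := hE
  haveI := isNilpotent_of_isElementary hq hel
  letI : Fintype E := Fintype.ofFinite E
  obtain ⟨a, b, hab, hc, ha, hb, -, -, -, -⟩ := exists_projections (E := E) p
  set Q : Subgroup H := a.range.map E.subtype with hQdef
  have hQp : IsPGroup p Q := by
    refine IsPGroup.iff_orderOf.2 fun x => ?_
    obtain ⟨e, he, hx⟩ := Subgroup.mem_map.1 x.2
    obtain ⟨e', rfl⟩ := he
    obtain ⟨k, hk⟩ := ha e'
    exact ⟨k, by rw [← Subgroup.orderOf_coe, ← hx, Subgroup.coe_subtype, Subgroup.orderOf_coe, hk]⟩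
  let φ : E →* Q := ((E.subtype.comp a).codRestrict Q fun e =>
    Subgroup.mem_map_of_mem _ ⟨e, rfl⟩)
  have h2 := IsGeneralizedCharacter.comp_hom (hQ Q hQp) φ
  have e : (fun e : E => f e) = fun e : E => f ((φ e : H)) := by
    funext e
    show f (e : H) = f ((a e : E) : H)
    rw [hpp (e : H)]
    congr 1
    refine pp_unique ⟨((b e : E) : H), ?_, (hc e).map E.subtype, ?_, ?_⟩
    · rw [← Subgroup.coe_mul, hab]
    · obtain ⟨k, hk⟩ := ha e
      exact ⟨k, by rw [Subgroup.orderOf_coe, hk]⟩
    · rw [Subgroup.orderOf_coe]; exact hb e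
  rw [e]
  exact h2

variable {G : Type u} [Group G] [Fintype G] (π : H →* G) (Z : Subgroup H) (ζ : Z →* ℂˣ)

/-- The lift of a class function vanishing on singular elements. -/
noncomputable def twist (p : ℕ) [Fact p.Prime] (F : G → ℂ) : H → ℂ := fun h =>
  if hh : pp p h ∈ Z then (ζ ⟨pp p h, hh⟩ : ℂ) * F (π h) else 0

lemma isClassFunction_twist (hZ : Z ≤ Subgroup.center H) {F : G → ℂ}
    (hF : IsClassFunction G F) : IsClassFunction H (twist π Z ζ p F) := by
  intro g h
  have hpc := pp_conj (p := p) g h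
  by_cases hg : pp p g ∈ Z
  · have e : h * pp p g * h⁻¹ = pp p g := by
      rw [(Subgroup.mem_center_iff.1 (hZ hg) h), mul_inv_cancel_right]
    rw [twist, twist, dif_pos (by rwa [hpc, e]), dif_pos hg]
    congr 1
    · congr 3
      rw [hpc, e]
    · rw [map_mul, map_mul, map_inv, hF]
  · rw [twist, twist, dif_neg, dif_neg hg]
    intro h'
    apply hg
    rw [hpc] at h'
    have h2 := Subgroup.mem_center_iff.1 (hZ h') h
    have e : pp p g = h * pp p g * h⁻¹ := by
      calc pp p g = h⁻¹ * (h * pp p g * h⁻¹ * h) := by group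
        _ = h⁻¹ * (h * (h * pp p g * h⁻¹)) := by rw [h2]
        _ = h * pp p g * h⁻¹ := by group
    rwa [e]

/-- The lift of a virtual character vanishing on singular elements is a virtual character. -/
theorem gen_twist (hZ : Z ≤ Subgroup.center H) (hker : π.ker = Z)
    {F : G → ℂ} (hF : IsGeneralizedCharacter G F) (hF0 : ∀ g, p ∣ orderOf g → F g = 0) :
    IsGeneralizedCharacter H (twist π Z ζ p F) := by
  refine isGeneralized_of_elementary
    (isClassFunction_twist π Z ζ hZ (isClassFunction_generalized hF)) fun E hE => ?_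
  obtain ⟨q, hq, hel⟩ := hE
  haveI := isNilpotent_of_isElementary hq hel
  letI : Fintype E := Fintype.ofFinite E
  obtain ⟨a, b, hab, hc, ha, hb, haa, hbb, hab1, hba1⟩ := exists_projections (E := E) p
  letI : Fintype a.range := Fintype.ofFinite _
  letI : Fintype b.range := Fintype.ofFinite _
  set ZE : Subgroup a.range := (Z.subgroupOf E).subgroupOf a.range with hZE
  letI : Fintype ZE := Fintype.ofFinite _
  have hpa : ∀ e : E, pp p (e : H) = ((a e : E) : H) := fun e => by
    refine pp_unique ⟨((b e : E) : H), ?_, (hc e).map E.subtype, ?_, ?_⟩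
    · rw [← Subgroup.coe_mul, hab]
    · obtain ⟨k, hk⟩ := ha e
      exact ⟨k, by rw [Subgroup.orderOf_coe, hk]⟩
    · rw [Subgroup.orderOf_coe]; exact hb e
  let ι : ZE →* Z :=
    ((E.subtype.comp a.range.subtype).comp ZE.subtype).codRestrict Z fun z => z.2
  let A : a.range → ℂ := indFun ZE fun z => (ζ (ι z) : ℂ)
  have hA : IsGeneralizedCharacter a.range A :=
    IsGeneralizedCharacter.indFun
      (IsCharacter.isGeneralized (isCharacter_linear (ζ.comp ι)))
  have hAval : ∀ x : a.range, A x = if hx : ((x : E) : H) ∈ Z then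
      ((Nat.card a.range : ℂ) / Nat.card ZE) * (ζ ⟨((x : E) : H), hx⟩ : ℂ) else 0 := fun x => by
    have hcz : ∀ y : a.range, x ∈ ZE → y⁻¹ * x * y = x := fun y hx => by
      refine Subtype.ext (Subtype.ext ?_)
      show ((y : E) : H)⁻¹ * ((x : E) : H) * ((y : E) : H) = ((x : E) : H)
      have hx' : ((x : E) : H) ∈ Z := hx
      rw [mul_assoc, ← Subgroup.mem_center_iff.1 (hZ hx') ((y : E) : H), inv_mul_cancel_left]
    show indFun ZE _ x = _
    rw [indFun]
    by_cases hx : ((x : E) : H) ∈ Z
    · rw [dif_pos hx, Finset.sum_congr rfl fun y _ => by rw [hcz y hx],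
        Finset.sum_const, Finset.card_univ, nsmul_eq_mul, Nat.card_eq_fintype_card (α := a.range)]
      rw [show extendByZero ZE (fun z => (ζ (ι z) : ℂ)) x = (ζ ⟨((x : E) : H), hx⟩ : ℂ) from
        Function.Injective.extend_apply Subtype.val_injective _ _ (⟨x, hx⟩ : ZE)]
      ring
    · rw [dif_neg hx, Finset.sum_eq_zero fun y _ => ?_, mul_zero]
      refine Function.extend_apply' _ _ _ ?_
      rintro ⟨z, hz⟩
      apply hx
      have h1 := hcz y⁻¹
      have h2 : y * (z : a.range) * y⁻¹ = x := by rw [hz]; group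
      have h3 : y * (z : a.range) * y⁻¹ = z := by
        refine Subtype.ext (Subtype.ext ?_)
        show ((y : E) : H) * (((z : a.range) : E) : H) * ((y : E) : H)⁻¹ = _
        have hz' : (((z : a.range) : E) : H) ∈ Z := z.2
        rw [Subgroup.mem_center_iff.1 (hZ hz') ((y : E) : H), mul_inv_cancel_right]
      rw [← h2, h3]
      exact z.2
  let φa : E →* a.range := a.rangeRestrict
  let φb : E →* b.range := b.rangeRestrict
  let B : b.range → ℂ := fun r => F (π ((r : E) : H))
  set k : ℂ := (Nat.card a.range : ℂ) / Nat.card ZE with hk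
  have hk0 : k ≠ 0 := div_ne_zero (Nat.cast_ne_zero.2 Nat.card_pos.ne')
    (Nat.cast_ne_zero.2 Nat.card_pos.ne')
  have hval : ∀ e : E, F (π (e : H)) =
      if ((a e : E) : H) ∈ Z then B (φb e) else 0 := fun e => by
    split_ifs with h
    · show F (π (e : H)) = F (π ((b e : E) : H))
      conv_lhs => rw [← hab e, Subgroup.coe_mul, map_mul]
      rw [MonoidHom.mem_ker.1 (hker ▸ h : ((a e : E) : H) ∈ π.ker), one_mul]
    · refine hF0 _ ?_
      by_contra hd
      refine h ?_
      rw [← hker, MonoidHom.mem_ker, ← hpa, ← pp_map, pp_eq_one_iff]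
      exact hd
  have hcf : IsClassFunction b.range B := fun g g' => by
    show F (π _) = F (π _)
    simp only [Subgroup.coe_mul, Subgroup.coe_inv, map_mul, map_inv]
    exact isClassFunction_generalized hF _ _
  have hsum : ∀ (g1 : a.range → ℂ) (g2 : b.range → ℂ),
      ∑ e : E, g1 (φa e) * g2 (φb e) = (∑ x, g1 x) * ∑ y, g2 y := fun g1 g2 => by
    rw [Finset.sum_mul_sum, ← Finset.sum_product']
    refine Fintype.sum_equiv ⟨fun e => (φa e, φb e), fun q => (q.1 : E) * (q.2 : E),
      fun e => hab e, fun q => ?_⟩ _ _ fun e => rfl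
    obtain ⟨⟨x, u, rfl⟩, y, w, rfl⟩ := q
    refine Prod.ext (Subtype.ext ?_) (Subtype.ext ?_)
    · show a (a u * b w) = a u
      rw [map_mul, haa, hab1, mul_one]
    · show b (a u * b w) = b w
      rw [map_mul, hba1, hbb, one_mul]
  have hB : IsGeneralizedCharacter b.range (k⁻¹ • B) := by
    refine isGeneralized_of_coeff
      (fun g g' => by simp only [Pi.smul_apply, hcf g g']) fun μ => ?_
    obtain ⟨z, hz⟩ := classInner_generalized_int
      (IsGeneralizedCharacter.comp_hom hF (π.comp E.subtype))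
      (IsCharacter.comp_hom (isCharacter_of_irr μ.2) φb)
    refine ⟨z, ?_⟩
    rw [← hz, classInner_smul_left, classInner_def, classInner_def]
    have h1 : ∀ e : E, F ((π.comp E.subtype) e) * conj ((μ : b.range → ℂ) (φb e)) =
        (fun x : a.range => if ((x : E) : H) ∈ Z then (1 : ℂ) else 0) (φa e) *
          (fun y : b.range => B y * conj ((μ : b.range → ℂ) y)) (φb e) := fun e => by
      show F (π (e : H)) * _ = (if ((a e : E) : H) ∈ Z then (1 : ℂ) else 0) * _
      rw [hval]
      split_ifs <;> simp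
    rw [Finset.sum_congr rfl fun e _ => h1 e,
      hsum (fun x : a.range => if ((x : E) : H) ∈ Z then (1 : ℂ) else 0)
        (fun y : b.range => B y * conj ((μ : b.range → ℂ) y)), Finset.sum_boole]
    have h2 : ((Finset.univ.filter fun x : a.range => ((x : E) : H) ∈ Z).card : ℂ) =
        Nat.card ZE := by
      rw [← Nat.card_eq_finsetCard]
      exact congrArg Nat.cast (Nat.card_congr
        ⟨fun x => ⟨x.1, (Finset.mem_filter.1 x.2).2⟩,
          fun x => ⟨x.1, Finset.mem_filter.2 ⟨Finset.mem_univ _, x.2⟩⟩, fun _ => rfl, fun _ => rfl⟩)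
    have h3 : (Nat.card E : ℂ) = Nat.card a.range * Nat.card b.range := by
      have := hsum (fun _ => 1) (fun _ => 1)
      simpa [Nat.card_eq_fintype_card] using this
    rw [h2, h3, hk]
    field_simp [Nat.cast_ne_zero.2 (Nat.card_pos (α := ZE)).ne',
      Nat.cast_ne_zero.2 (Nat.card_pos (α := a.range)).ne',
      Nat.cast_ne_zero.2 (Nat.card_pos (α := b.range)).ne']
  have h := IsGeneralizedCharacter.mul (IsGeneralizedCharacter.comp_hom hA φa)
    (IsGeneralizedCharacter.comp_hom hB φb)
  have e : (fun e : E => twist π Z ζ p F e) =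
      (fun e => A (φa e)) * fun e => (k⁻¹ • B) (φb e) := by
    funext e
    show twist π Z ζ p F (e : H) = A (φa e) * (k⁻¹ * B (φb e))
    rw [hAval]
    show _ = (if hx : ((a e : E) : H) ∈ Z then _ else _) * _
    by_cases hz : ((a e : E) : H) ∈ Z
    · rw [twist, dif_pos (by rwa [hpa]), dif_pos hz, hval, if_pos hz]
      rw [show (⟨pp p (e : H), _⟩ : Z) = ⟨((a e : E) : H), hz⟩ from Subtype.ext (hpa e)]
      field_simp
      exact mul_comm _ _
    · rw [twist, dif_neg (by rwa [hpa]), dif_neg hz, zero_mul]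
  rw [e]
  exact h

end Cfsg.Lib.SmithTyrer
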