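import Mathlib
import Cfsg.Agent.SmithTyrer.Lift
import Cfsg.Agent.SmithTyrer.Fourier
import Cfsg.Agent.Chars.NormTwo
import Cfsg.Agent.Blocks.Orth2
import Cfsg.Agent.Blocks.Idem
import Cfsg.Agent.S0942

/-!
# The exceptional characters

The virtual characters on the sections give the principal block members `θ` and the exceptional
family, with their values on singular elements and their relation on regular elements.
-/

set_option autoImplicit false
set_option linter.unusedSectionVars false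
set_option linter.style.haveILetI false

namespace Cfsg.Lib.SmithTyrer

open Cfsg.Lib.Blocks Cfsg.Lib.Chars Cfsg.Lib.Blocks.Homocyclic
open scoped Classical ComplexConjugate

universe u

attribute [local instance high] MonoidHom.instCommGroup

attribute [local instance high] stMul stInv stOne stComm stDiv

variable {G : Type u} [Group G] [Fintype G] {p : ℕ} [hp : Fact p.Prime]
  {P : Sylow p G} {τ : G}

/-- The function on the sections belonging to an even function on the Sylow subgroup. -/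
noncomputable def lift (P : Sylow p G) (F : ↥(P : Subgroup G) → ℂ) : G → ℂ := fun g =>
  if h : ∃ x : (P : Subgroup G), IsConj (x : G) (pp p g) then F h.choose else 0

namespace Setup

variable (s : Setup P τ)

include s

/-- The Sylow subgroup as a commutative group. -/
@[reducible] def commGroup : CommGroup (P : Subgroup G) :=
  { (inferInstance : Group ↥(P : Subgroup G)) with
    mul_comm := fun a b => Subtype.ext (s.comm a a.2 b b.2) }

lemma lift_eq {F : ↥(P : Subgroup G) → ℂ} (hF : ∀ x, F x⁻¹ = F x) {g : G}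
    {x : (P : Subgroup G)} (hx : IsConj (x : G) (pp p g)) : lift P F g = F x := by
  have h : ∃ y : (P : Subgroup G), IsConj (y : G) (pp p g) := ⟨x, hx⟩
  rw [lift, dif_pos h]
  rcases (s.isConj_iff_sign x.2 h.choose.2).1 (hx.trans h.choose_spec.symm) with e | e
  · rw [Subtype.ext e]
  · rw [show h.choose = x⁻¹ from Subtype.ext e, hF]

lemma exists_conj_pp (g : G) : ∃ x : (P : Subgroup G), IsConj (x : G) (pp p g) := by
  obtain ⟨x, hx, h⟩ := s.exists_conj_mem (pp_pGroup (p := p) g)
  exact ⟨⟨x, hx⟩, h⟩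

lemma isClassFunction_lift {F : ↥(P : Subgroup G) → ℂ} (hF : ∀ x, F x⁻¹ = F x) :
    IsClassFunction G (lift P F) := by
  intro g a
  obtain ⟨x, hx⟩ := s.exists_conj_pp g
  rw [s.lift_eq hF hx, s.lift_eq hF (x := x) ?_]
  rw [pp_conj]
  exact hx.trans (isConj_iff.2 ⟨a, rfl⟩)

lemma lift_mul {F : ↥(P : Subgroup G) → ℂ} (hF : ∀ x, F x⁻¹ = F x) {x : (P : Subgroup G)} {v : G}
    (hv : v ∈ reg p (x : G)) : lift P F ((x : G) * v) = F x :=
  s.lift_eq hF (by rw [pp_mul (s.orderOf_pow x.2) (mem_reg.1 hv).1 (mem_reg.1 hv).2])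

lemma gen_lift {F : ↥(P : Subgroup G) → ℂ} (hF : ∀ x, F x⁻¹ = F x)
    (hgen : IsGeneralizedCharacter (P : Subgroup G) F) :
    IsGeneralizedCharacter G (lift P F) := by
  refine gen_of_pp (p := p) (s.isClassFunction_lift hF) (fun g => ?_) fun Q hQ => ?_
  · obtain ⟨x, hx⟩ := s.exists_conj_pp g
    rw [s.lift_eq hF hx, s.lift_eq hF (x := x) (by rwa [pp_self (pp_pGroup g)])]
  · obtain ⟨R, hR⟩ := hQ.exists_le_sylow
    obtain ⟨a, ha⟩ := MulAction.exists_smul_eq G R P
    have hmem : ∀ q : Q, a * (q : G) * a⁻¹ ∈ (P : Subgroup G) := fun q => by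
      rw [← ha, Sylow.coe_subgroup_smul]
      exact ⟨q, hR q.2, rfl⟩
    let φ : Q →* (P : Subgroup G) :=
      ((MulAut.conj a).toMonoidHom.comp Q.subtype).codRestrict _ hmem
    have e : (fun q : Q => lift P F (q : G)) = fun q : Q => F (φ q) := by
      funext q
      refine s.lift_eq hF ?_
      obtain ⟨k, hk⟩ := IsPGroup.iff_orderOf.1 hQ q
      rw [pp_self ⟨k, by rw [Subgroup.orderOf_coe, hk]⟩]
      exact (isConj_iff.2 ⟨a, rfl⟩ : IsConj (q : G) (a * (q : G) * a⁻¹)).symm
    rw [e]
    exact IsGeneralizedCharacter.comp_hom hgen φ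

/-- Singular elements are swept out twice by the sections. -/
lemma two_mul_sum_singular (f : G → ℂ) :
    2 * ∑ g ∈ Finset.univ.filter (fun g => p ∣ orderOf g), f g =
      ∑ x ∈ (Finset.univ : Finset ↥(P : Subgroup G)).erase 1, ∑ g ∈ sec p (x : G), f g := by
  simp only [sec, Finset.sum_filter, Finset.mul_sum]
  rw [Finset.sum_comm]
  refine Finset.sum_congr rfl fun g _ => ?_
  obtain ⟨x, hx⟩ := s.exists_conj_pp g
  by_cases hg : p ∣ orderOf g
  · rw [if_pos hg, ← Finset.sum_filter]
    have hx1 : (x : G) ≠ 1 := fun h => by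
      rw [h, isConj_one_right, pp_eq_one_iff] at hx
      exact hx hg
    have hset : ((Finset.univ : Finset ↥(P : Subgroup G)).erase 1).filter
        (fun y : ↥(P : Subgroup G) => IsConj (y : G) (pp p g)) = {x, x⁻¹} := by
      ext y
      simp only [Finset.mem_filter, Finset.mem_erase, Finset.mem_univ, and_true,
        Finset.mem_insert, Finset.mem_singleton]
      constructor
      · rintro ⟨-, hy⟩
        rcases (s.isConj_iff_sign x.2 y.2).1 (hx.trans hy.symm) with e | e
        · exact Or.inl (Subtype.ext e)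
        · exact Or.inr (Subtype.ext e)
      · rintro (rfl | rfl)
        · exact ⟨fun h => hx1 (by rw [h]; rfl), hx⟩
        · refine ⟨fun h => hx1 (by rw [inv_eq_one.1 h]; rfl), IsConj.trans ?_ hx⟩
          exact ((s.isConj_iff_sign x.2 (inv_mem x.2)).2 (Or.inr rfl)).symm
    rw [hset, Finset.sum_pair (fun h => s.inv_ne x.2 hx1 (congrArg Subtype.val h).symm), two_mul]
  · rw [if_neg hg, mul_zero, Finset.sum_eq_zero fun y hy => if_neg fun h => ?_]
    rw [pp_eq_one_iff.2 hg, isConj_one_left] at h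
    exact (Finset.mem_erase.1 hy).1 (Subtype.ext h)

lemma two_q_mul_sum_singular {f : G → ℂ} (hf : IsClassFunction G f) :
    2 * (Nat.card P : ℂ) * ∑ g ∈ Finset.univ.filter (fun g => p ∣ orderOf g), f g =
      (Fintype.card G : ℂ) *
        ∑ x ∈ (Finset.univ : Finset ↥(P : Subgroup G)).erase 1, avg p f (x : G) := by
  rw [mul_comm (2 : ℂ), mul_assoc, s.two_mul_sum_singular, Finset.mul_sum, Finset.mul_sum]
  exact Finset.sum_congr rfl fun x hx =>
    s.sum_sec hf x.2 fun h => (Finset.mem_erase.1 hx).1 (Subtype.ext h)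

/-- Pairing with a lifted function. -/
lemma classInner_lift {f : G → ℂ} (hf : IsClassFunction G f) {F : ↥(P : Subgroup G) → ℂ}
    (hF : ∀ x, F x⁻¹ = F x) (hF1 : F 1 = 0) :
    2 * (Nat.card P : ℂ) * classInner f (lift P F) =
      ∑ x : (P : Subgroup G), avg p f (x : G) * conj (F x) := by
  have hG : (Nat.card G : ℂ) = Fintype.card G := by rw [Nat.card_eq_fintype_card]
  have hprod : IsClassFunction G fun g => f g * conj (lift P F g) := fun g a => by
    simp only [hf g a, s.isClassFunction_lift hF g a]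
  have h1 : ∀ g : G, ¬ p ∣ orderOf g → lift P F g = 0 := fun g hg => by
    rw [s.lift_eq hF (x := 1) (by rw [pp_eq_one_iff.2 hg]; rfl), hF1]
  have h2 : ∑ g : G, f g * conj (lift P F g) =
      ∑ g ∈ Finset.univ.filter (fun g => p ∣ orderOf g), f g * conj (lift P F g) := by
    rw [Finset.sum_filter]
    refine Finset.sum_congr rfl fun g _ => ?_
    split_ifs with h
    · rfl
    · rw [h1 g h, map_zero, mul_zero]
  rw [classInner_def, h2, hG,
    show ∀ a b c d : ℂ, a * b * (c * d) = c * (a * b * d) from fun a b c d => by ring,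
    s.two_q_mul_sum_singular hprod, ← mul_assoc,
    inv_mul_cancel₀ (Nat.cast_ne_zero.2 Fintype.card_ne_zero), one_mul,
    ← Finset.add_sum_erase _ _ (Finset.mem_univ (1 : ↥(P : Subgroup G))), hF1, map_zero, mul_zero,
    zero_add]
  refine Finset.sum_congr rfl fun x _ => ?_
  rw [avg, avg, Finset.sum_congr rfl fun v hv => by rw [s.lift_mul hF hv], ← Finset.sum_mul,
    mul_div_right_comm]

end Setup

/-- The exceptional configuration. -/
structure Exc (P : Sylow p G) (M : Ideal AlgInt) where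
  θ : IrrCharacter G
  Φ : Finset (IrrCharacter G)
  δ : ℤ
  e : ℤ
  δ_sq : δ = 1 ∨ δ = -1
  e_sq : e = 1 ∨ e = -1
  θ_ne : θ ≠ principal G
  one_not_mem : principal G ∉ Φ
  θ_not_mem : θ ∉ Φ
  card : 2 * Φ.card + 1 = Nat.card P
  θ_sing : ∀ g : G, p ∣ orderOf g → (θ : G → ℂ) g = δ
  χ_reg : ∀ χ ∈ Φ, ∀ g : G, ¬ p ∣ orderOf g →
    (χ : G → ℂ) g = e * (1 + δ * (θ : G → ℂ) g)
  sum_sing : ∀ g : G, p ∣ orderOf g → ∑ χ ∈ Φ, (χ : G → ℂ) g = -e
  θ_mem : θ ∈ principalBlock M G
  Φ_mem : ∀ χ ∈ Φ, χ ∈ principalBlock M G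
  other : ∀ η ∈ principalBlock M G, η ≠ principal G → η ≠ θ → η ∉ Φ →
    ∀ g : G, p ∣ orderOf g → (η : G → ℂ) g = 0

/-- The exceptional configuration exists. -/
theorem Setup.exists_exc (s : Setup P τ) {M : Ideal AlgInt} (hM : IsPModular p M)
    (hq : 9 ≤ Nat.card P) : Nonempty (Exc P M) := by
  letI := s.commGroup
  letI : Fintype (↥(P : Subgroup G) →* ℂˣ) := Fintype.ofFinite _
  set q : ℕ := Nat.card P with hqdef
  have hqF : Fintype.card (P : Subgroup G) = q := (Nat.card_eq_fintype_card).symm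
  have hq0 : (q : ℂ) ≠ 0 := Nat.cast_ne_zero.2 (by omega)
  have hodd : Odd (Fintype.card ↥(P : Subgroup G)) := by
    rw [hqF, hqdef]
    obtain ⟨k, hk⟩ := IsPGroup.iff_card.1 P.2
    rw [hk]
    exact (hp.out.odd_of_ne_two s.odd).pow
  obtain ⟨L, hL1, hLiff, hLcard, hLsum⟩ := exists_reps (A := ↥(P : Subgroup G)) hodd
  rw [hqF] at hLcard
  let Γ : (↥(P : Subgroup G) →* ℂˣ) → G → ℂ := fun l => lift P (be l)
  have hcf : ∀ l, IsClassFunction G (Γ l) := fun l => s.isClassFunction_lift (be_inv_arg l)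
  have hpair : ∀ {f : G → ℂ}, IsClassFunction G f → ∀ l,
      2 * (q : ℂ) * classInner f (Γ l) = ∑ x : (P : Subgroup G), avg p f (x : G) * be l x :=
    fun hf l => by
      rw [s.classInner_lift hf (be_inv_arg l) (be_at_one l)]
      exact Finset.sum_congr rfl fun x _ => by rw [conj_be]
  have hgen : ∀ l, IsGeneralizedCharacter G (Γ l) := fun l => by
    refine s.gen_lift (be_inv_arg l) ?_
    have e : be l = (((2 : ℤ) • fun _ : (P : Subgroup G) => (1 : ℂ)) +
        ((-1 : ℤ) • fun x : (P : Subgroup G) => (l x : ℂ))) +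
        ((-1 : ℤ) • fun x : (P : Subgroup G) =>
          ((l⁻¹ : ↥(P : Subgroup G) →* ℂˣ) x : ℂ)) := by
      funext x
      simp [be]
      ring
    rw [e]
    exact IsGeneralizedCharacter.add (IsGeneralizedCharacter.add
      (IsGeneralizedCharacter.zsmul (IsCharacter.isGeneralized isCharacter_one) _)
      (IsGeneralizedCharacter.zsmul (IsCharacter.isGeneralized (isCharacter_linear l)) _))
      (IsGeneralizedCharacter.zsmul (IsCharacter.isGeneralized (isCharacter_linear l⁻¹)) _)
  have hone : ∀ l, Γ l 1 = 0 := fun l => by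
    show lift P (be l) 1 = 0
    rw [s.lift_eq (be_inv_arg l) (x := 1) ?_, be_at_one]
    rw [pp_eq_one_iff.2 (by simpa using hp.out.ne_one)]
    rfl
  have hgram : ∀ l ∈ L, ∀ k ∈ L, classInner (Γ l) (Γ k) = if l = k then 3 else 2 := by
    intro l hl k hk
    have h := hpair (hcf l) k
    have havg : ∀ x : (P : Subgroup G), avg p (Γ l) (x : G) = be l x := fun x => by
      rw [avg, Finset.sum_congr rfl fun v hv => s.lift_mul (be_inv_arg l) hv, Finset.sum_const,
        nsmul_eq_mul, mul_div_assoc, mul_div_cancel₀ _ (reg_card_ne _)]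
    simp only [havg, sum_be_mul (hL1 l hl) (hL1 k hk)] at h
    have hlk : l * k ≠ 1 := fun e => by
      have e' : k = l⁻¹ := eq_inv_of_mul_eq_one_right e
      exact (hLiff l (hL1 l hl)).1 hl (e' ▸ hk)
    rw [if_neg hlk, hqF] at h
    refine mul_left_cancel₀ (mul_ne_zero two_ne_zero hq0) ?_
    rw [h]
    split_ifs <;> ring
  have hprin : ∀ l ∈ L, classInner (fun _ => (1 : ℂ)) (Γ l) = 1 := fun l hl => by
    have h := hpair (f := fun _ : G => (1 : ℂ)) (fun _ _ => rfl) l
    have havg : ∀ x : G, avg p (fun _ : G => (1 : ℂ)) x = 1 := fun x => by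
      rw [avg, Finset.sum_const, nsmul_one, div_self (reg_card_ne x)]
    simp only [havg, one_mul, sum_be (hL1 l hl), hqF] at h
    exact mul_left_cancel₀ (mul_ne_zero two_ne_zero hq0) (h.trans (mul_one _).symm)
  have h4 : 4 ≤ L.card := by omega
  obtain ⟨l₀, hl₀⟩ := Finset.card_pos.1 (show 0 < L.card by omega)
  -- the star of differences
  obtain ⟨ε, hε, μ, hμirr, hμinj, hμ⟩ := exists_star (⟨l₀, hl₀⟩ : L)
    (fun i : L => Γ i.1 - Γ l₀) (sub_self _)
    (fun i => IsGeneralizedCharacter.sub (hgen _) (hgen _))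
    (fun i => by simp [hone])
    (fun i j hi hj => by
      have hi' : i.1 ≠ l₀ := fun e => hi (Subtype.ext e)
      have hj' : j.1 ≠ l₀ := fun e => hj (Subtype.ext e)
      refine ⟨fun e => ?_, fun e => ?_⟩
      all_goals rw [classInner_sub_left, classInner_sub_right, classInner_sub_right,
        hgram _ i.2 _ j.2, hgram _ i.2 _ hl₀, hgram _ hl₀ _ j.2, hgram _ hl₀ _ hl₀,
        if_neg hi', if_neg (Ne.symm hj'), if_pos rfl]
      · rw [e, if_pos rfl]; norm_num
      · rw [if_neg fun h => e (Subtype.ext h)]; norm_num)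
  let c : L → IrrCharacter G := fun i => ⟨μ i, hμirr i⟩
  have hcinj : Function.Injective c := fun i j h => hμinj (congrArg Subtype.val h)
  have hε0 : ε ≠ 0 := by rcases hε with e | e <;> rw [e] <;> norm_num
  obtain ⟨εz, hεz, hεzs⟩ : ∃ n : ℤ, ε = n ∧ (n = 1 ∨ n = -1) := by
    rcases hε with e | e
    · exact ⟨1, by simp [e], Or.inl rfl⟩
    · exact ⟨-1, by simp [e], Or.inr rfl⟩
  set i₀ : L := ⟨l₀, hl₀⟩ with hi₀
  -- coefficients of `Γ l₀`
  obtain ⟨a, ha⟩ := exists_int_decomp (hgen l₀)
  have hcoef : ∀ ψ : IrrCharacter G, classInner (Γ l₀) (ψ : G → ℂ) = a ψ := fun ψ => by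
    rw [ha, classInner_irrSum]
  have hΓ : ∀ (i : L) (ψ : IrrCharacter G), classInner (Γ i.1) (ψ : G → ℂ) =
      (a ψ : ℂ) + ε * ((if c i = ψ then 1 else 0) - (if c i₀ = ψ then 1 else 0)) := fun i ψ => by
    have e : Γ i.1 = Γ l₀ + ε • ((c i : G → ℂ) - (c i₀ : G → ℂ)) := by
      rw [← hμ i]; simp
    rw [e, classInner_add_left, classInner_smul_left, classInner_sub_left, hcoef,
      classInner_irrCharacter, classInner_irrCharacter]
  have hc1 : ∀ i, c i ≠ principal G := by
    have key : ∀ i, (if c i = principal G then (1 : ℂ) else 0) -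
        (if c i₀ = principal G then 1 else 0) = 0 := fun i => by
      have h1 := hΓ i (principal G)
      have h2 := hΓ i₀ (principal G)
      have h3 : ∀ l ∈ L, classInner (Γ l) (principal G : G → ℂ) = 1 := fun l hl => by
        rw [← classInner_conj_symm, show (principal G : G → ℂ) = fun _ => 1 from rfl, hprin l hl,
          map_one]
      rw [h3 _ i.2] at h1
      rw [h3 _ i₀.2, sub_self, mul_zero, add_zero] at h2
      rw [← h2] at h1
      exact (mul_eq_zero.1 (by linear_combination -h1)).resolve_left hε0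
    intro i hi
    obtain ⟨j, hj⟩ : ∃ j : L, j ≠ i := by
      by_contra hne
      push Not at hne
      have : Fintype.card L ≤ 1 := Fintype.card_le_one_iff.2 fun a b => (hne a).trans (hne b).symm
      rw [Fintype.card_coe] at this
      omega
    have h1 := key i
    have h2 := key j
    have hji : c j ≠ principal G := fun h => hj (hcinj (h.trans hi.symm))
    rw [if_pos hi] at h1
    rw [if_neg hji] at h2
    by_cases h0 : c i₀ = principal G
    · rw [if_pos h0] at h2
      norm_num at h2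
    · rw [if_neg h0] at h1
      norm_num at h1
  have hsumsq : ∑ ψ, a ψ * a ψ = 3 := by
    apply Int.cast_injective (α := ℂ)
    have h := hgram l₀ hl₀ l₀ hl₀
    rw [if_pos rfl, ha, classInner_self_decomp] at h
    push_cast
    simpa using h
  have ha1 : a (principal G) = 1 := by
    apply Int.cast_injective (α := ℂ)
    rw [← hcoef, ← classInner_conj_symm, show (principal G : G → ℂ) = fun _ => 1 from rfl,
      hprin l₀ hl₀, map_one, Int.cast_one]
  have hai : ∀ i, i ≠ i₀ → a (c i) = a (c i₀) - εz := fun i hi => by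
    have hi' : i.1 ≠ l₀ := fun e => hi (Subtype.ext e)
    have h := hgram _ hl₀ _ i.2
    rw [if_neg (Ne.symm hi')] at h
    have e : Γ i.1 = Γ l₀ + ε • ((c i : G → ℂ) - (c i₀ : G → ℂ)) := by
      rw [← hμ i]; simp
    rw [e, classInner_add_right, classInner_smul_right, classInner_sub_right, hcoef, hcoef,
      hgram _ hl₀ _ hl₀, if_pos rfl, hεz] at h
    simp only [map_intCast] at h
    apply Int.cast_injective (α := ℂ)
    push_cast
    rcases hεzs with e | e <;> subst e <;> push_cast at h ⊢ <;>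
      first | linear_combination h | linear_combination -h
  -- the second constituent
  have hkey : a (c i₀) = εz ∧ (∀ i, i ≠ i₀ → a (c i) = 0) ∧
      ∃ θ, θ ≠ principal G ∧ (∀ i, θ ≠ c i) ∧ (a θ = 1 ∨ a θ = -1) ∧
        ∀ ψ, ψ ≠ principal G → ψ ≠ c i₀ → ψ ≠ θ → a ψ = 0 := by
    have hsplit : ∀ S : Finset (IrrCharacter G), ∑ ψ ∈ S, a ψ * a ψ ≤ 3 := fun S =>
      hsumsq ▸ Finset.sum_le_univ_sum_of_nonneg fun ψ => mul_self_nonneg _
    have hT : principal G ∉ Finset.univ.image c := by
      simp only [Finset.mem_image, Finset.mem_univ, true_and, not_exists]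
      exact hc1
    have hle := hsplit (insert (principal G) (Finset.univ.image c))
    rw [Finset.sum_insert hT, ha1, Finset.sum_image fun i _ j _ h => hcinj h,
      ← Finset.add_sum_erase _ _ (Finset.mem_univ i₀),
      Finset.sum_congr rfl fun i hi => by rw [hai i (Finset.mem_erase.1 hi).1],
      Finset.sum_const, Finset.card_erase_of_mem (Finset.mem_univ _), Finset.card_univ,
      Fintype.card_coe, nsmul_eq_mul] at hle
    have hn : (3 : ℤ) ≤ ((L.card - 1 : ℕ) : ℤ) := by exact_mod_cast (show 3 ≤ L.card - 1 by omega)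
    have hmid : a (c i₀) = εz := by
      by_contra h
      have h1 : 1 ≤ (a (c i₀) - εz) * (a (c i₀) - εz) := by
        nlinarith [Int.one_le_abs (sub_ne_zero.2 h), abs_mul_abs_self (a (c i₀) - εz),
          abs_nonneg (a (c i₀) - εz)]
      have h2 : 3 ≤ ((L.card - 1 : ℕ) : ℤ) * ((a (c i₀) - εz) * (a (c i₀) - εz)) := by nlinarith
      nlinarith [mul_self_nonneg (a (c i₀))]
    have hzero : ∀ i, i ≠ i₀ → a (c i) = 0 := fun i hi => by rw [hai i hi, hmid, sub_self]
    refine ⟨hmid, hzero, ?_⟩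
    have hpair' : ∑ ψ ∈ ({principal G, c i₀} : Finset _), a ψ * a ψ = 2 := by
      rw [Finset.sum_pair (Ne.symm (hc1 i₀)), ha1, hmid]
      rcases hεzs with e | e <;> rw [e] <;> norm_num
    have hrest : ∑ ψ ∈ (Finset.univ \ {principal G, c i₀} : Finset _), a ψ * a ψ = 1 := by
      have := Finset.sum_sdiff (f := fun ψ => a ψ * a ψ)
        (Finset.subset_univ ({principal G, c i₀} : Finset _))
      rw [hsumsq, hpair'] at this
      omega
    obtain ⟨θ, hθm, hθ⟩ := Finset.exists_ne_zero_of_sum_ne_zero (hrest.symm ▸ one_ne_zero)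
    rw [← Finset.add_sum_erase _ _ hθm] at hrest
    have hnn : 0 ≤ ∑ ψ ∈ (Finset.univ \ {principal G, c i₀} : Finset _).erase θ, a ψ * a ψ :=
      Finset.sum_nonneg fun ψ _ => mul_self_nonneg _
    have hθ1 : 0 < a θ * a θ := lt_of_le_of_ne (mul_self_nonneg _) (Ne.symm hθ)
    have hsq : a θ * a θ = 1 := by omega
    have hout : ∑ ψ ∈ (Finset.univ \ {principal G, c i₀} : Finset _).erase θ, a ψ * a ψ = 0 := by
      omega
    simp only [Finset.mem_sdiff, Finset.mem_univ, true_and, Finset.mem_insert,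
      Finset.mem_singleton, not_or] at hθm
    refine ⟨θ, hθm.1, fun i => ?_, mul_self_eq_one_iff.1 hsq, fun ψ h1 h2 h3 => ?_⟩
    · rintro rfl
      by_cases hi : i = i₀
      · exact hθm.2 (congrArg c hi)
      · rw [hzero i hi] at hθ1; simp at hθ1
    · have := (Finset.sum_eq_zero_iff_of_nonneg fun x _ => mul_self_nonneg (a x)).1 hout ψ
        (by simp [h1, h2, h3])
      simpa using this
  obtain ⟨hmid, hzero, θ, hθne, hθc, hδ, hrest⟩ := hkey
  have hΓl : ∀ i : L, Γ i.1 = (fun g => 1 + (a θ : ℂ) * (θ : G → ℂ) g +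
      ε * (c i : G → ℂ) g) := by
    intro i
    have e0 : Γ l₀ = fun g => 1 + (a θ : ℂ) * (θ : G → ℂ) g + ε * (c i₀ : G → ℂ) g := by
      funext g
      rw [ha, Finset.sum_apply, ← Finset.sum_subset
        (Finset.subset_univ ({principal G, θ, c i₀} : Finset (IrrCharacter G))) fun ψ _ h => by
          simp only [Finset.mem_insert, Finset.mem_singleton, not_or] at h
          simp [hrest ψ h.1 h.2.2 h.2.1]]
      rw [Finset.sum_insert (by simp [Ne.symm hθne, Ne.symm (hc1 i₀)]),
        Finset.sum_pair (hθc i₀), ha1, hmid, hεz]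
      simp only [Pi.smul_apply, smul_eq_mul, Int.cast_one, one_mul]
      rw [show ((principal G : G → ℂ)) g = 1 from rfl]
      ring
    have e : Γ i.1 = Γ l₀ + ε • ((c i : G → ℂ) - (c i₀ : G → ℂ)) := by
      rw [← hμ i]; simp
    funext g
    rw [e, Pi.add_apply, Pi.smul_apply, Pi.sub_apply, smul_eq_mul, e0]
    ring
  -- averages from the coefficients
  have hm : ∀ (ψ : IrrCharacter G) (i : L), classInner (ψ : G → ℂ) (Γ i.1) =
      (if ψ = principal G then 1 else 0) + (a θ : ℂ) * (if ψ = θ then 1 else 0) +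
        ε * (if ψ = c i then 1 else 0) := fun ψ i => by
    rw [hΓl i, show (fun g => 1 + (a θ : ℂ) * (θ : G → ℂ) g + ε * (c i : G → ℂ) g) =
      (principal G : G → ℂ) + (a θ : ℂ) • (θ : G → ℂ) + ε • (c i : G → ℂ) from rfl,
      classInner_add_right, classInner_add_right, classInner_smul_right, classInner_smul_right,
      classInner_irrCharacter, classInner_irrCharacter, classInner_irrCharacter, hεz,
      map_intCast, map_intCast]
  have havg : ∀ (ψ : IrrCharacter G) (x : ↥(P : Subgroup G)), x ≠ 1 →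
      avg p (ψ : G → ℂ) (x : G) =
        -∑ i : L, classInner (ψ : G → ℂ) (Γ i.1) *
          (((i.1 x : ℂˣ) : ℂ) + (((i.1)⁻¹ : ↥(P : Subgroup G) →* ℂˣ) x : ℂ)) := by
    intro ψ x hx
    have hev : avg p (ψ : G → ℂ) ((x⁻¹ : ↥(P : Subgroup G)) : G) = avg p (ψ : G → ℂ) (x : G) := by
      have hxG : (x : G) ≠ 1 := fun h => hx (Subtype.ext h)
      have e1 := s.sum_sec (isClassFunction_irr ψ) x.2 hxG
      have e2 := s.sum_sec (isClassFunction_irr ψ) (inv_mem x.2) (inv_ne_one.2 hxG)
      have hsec : sec p (x : G) = sec p (x : G)⁻¹ := by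
        have hc : IsConj (x : G) (x : G)⁻¹ :=
          (s.isConj_iff_sign x.2 (inv_mem x.2)).2 (Or.inr rfl)
        exact Finset.filter_congr fun g _ => ⟨hc.symm.trans, hc.trans⟩
      rw [hsec, e2] at e1
      exact mul_left_cancel₀ (Nat.cast_ne_zero.2 Fintype.card_ne_zero) e1
    have h := fourier (fun y : (P : Subgroup G) => avg p (ψ : G → ℂ) (y : G)) hx
    simp only [← hpair (isClassFunction_irr ψ)] at h
    rw [hev, hqF] at h
    have h2 : ∑ l : ↥(P : Subgroup G) →* ℂˣ, 2 * (q : ℂ) * classInner (ψ : G → ℂ) (Γ l) * (l x : ℂ) =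
        2 * (q : ℂ) * ∑ i : L, classInner (ψ : G → ℂ) (Γ i.1) *
          (((i.1 x : ℂˣ) : ℂ) + (((i.1)⁻¹ : ↥(P : Subgroup G) →* ℂˣ) x : ℂ)) := by
      rw [Finset.mul_sum, Finset.sum_coe_sort L (fun l => 2 * (q : ℂ) *
        (classInner (ψ : G → ℂ) (Γ l) * ((l x : ℂ) + ((l⁻¹ : ↥(P : Subgroup G) →* ℂˣ) x : ℂ))))]
      have h1 : classInner (ψ : G → ℂ) (Γ 1) = 0 := by
        have h := hpair (isClassFunction_irr ψ) 1
        rw [Finset.sum_eq_zero fun y _ => by
          simp [be, Homocyclic.one_app, Homocyclic.inv_app]; norm_num] at h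
        exact (mul_eq_zero.1 h).resolve_left (mul_ne_zero two_ne_zero hq0)
      rw [← Finset.sum_filter_add_sum_filter_not Finset.univ (fun l => l ∈ L),
        Finset.filter_mem_eq_inter, Finset.univ_inter]
      have e : ∑ l ∈ Finset.univ.filter (fun l => l ∉ L),
            2 * (q : ℂ) * classInner (ψ : G → ℂ) (Γ l) * (l x : ℂ) =
          ∑ l ∈ L, 2 * (q : ℂ) * classInner (ψ : G → ℂ) (Γ l) *
            ((l⁻¹ : ↥(P : Subgroup G) →* ℂˣ) x : ℂ) := by
        rw [← Finset.add_sum_erase _ _ (show (1 : ↥(P : Subgroup G) →* ℂˣ) ∈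
          Finset.univ.filter (fun l => l ∉ L) from
            Finset.mem_filter.2 ⟨Finset.mem_univ _, fun h => hL1 _ h rfl⟩), h1, mul_zero, zero_mul,
          zero_add]
        refine Finset.sum_nbij' (·⁻¹) (·⁻¹) (fun l hl => ?_) (fun l hl => ?_) (fun l _ => inv_inv l)
          (fun l _ => inv_inv l) fun l _ => ?_
        · obtain ⟨h1, h2⟩ := Finset.mem_erase.1 hl
          by_contra h
          exact (Finset.mem_filter.1 h2).2 ((hLiff l h1).2 h)
        · refine Finset.mem_erase.2 ⟨inv_ne_one.2 (hL1 l hl),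
            Finset.mem_filter.2 ⟨Finset.mem_univ _, (hLiff l (hL1 l hl)).1 hl⟩⟩
        · show 2 * (q : ℂ) * classInner _ (lift P (be l)) * _ =
            2 * (q : ℂ) * classInner _ (lift P (be l⁻¹)) * _
          rw [show be l⁻¹ = be l from funext (be_inv_char l), inv_inv]
      rw [e, ← Finset.sum_add_distrib]
      exact Finset.sum_congr rfl fun l _ => by ring
    rw [h2] at h
    refine mul_left_cancel₀ (mul_ne_zero two_ne_zero hq0) ?_
    linear_combination h
  have havgsum : ∀ x : (P : Subgroup G), x ≠ 1 → ∑ i : L,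
      (((i.1 x : ℂˣ) : ℂ) + (((i.1)⁻¹ : ↥(P : Subgroup G) →* ℂˣ) x : ℂ)) = -1 := fun x hx => by
    rw [Finset.sum_coe_sort L
      (fun l => (l x : ℂ) + ((l⁻¹ : ↥(P : Subgroup G) →* ℂˣ) x : ℂ)), hLsum x hx]
  have havgθ : ∀ x : (P : Subgroup G), x ≠ 1 → avg p (θ : G → ℂ) (x : G) = a θ := fun x hx => by
    rw [havg θ x hx, Finset.sum_congr rfl fun i _ => by
      rw [hm, if_neg hθne, if_pos rfl, if_neg (hθc i), zero_add, mul_zero, add_zero, mul_one],
      ← Finset.mul_sum, havgsum x hx]
    ring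
  have havgc : ∀ (j : L) (x : ↥(P : Subgroup G)), x ≠ 1 → avg p (c j : G → ℂ) (x : G) =
      -ε * (((j.1 x : ℂˣ) : ℂ) + (((j.1)⁻¹ : ↥(P : Subgroup G) →* ℂˣ) x : ℂ)) := fun j x hx => by
    rw [havg (c j) x hx, Finset.sum_eq_single j]
    · rw [hm, if_neg (hc1 j), if_neg (Ne.symm (hθc j)), if_pos rfl]
      ring
    · intro i _ hi
      rw [hm, if_neg (hc1 j), if_neg (Ne.symm (hθc j)), if_neg fun h => hi (hcinj h).symm]
      ring
    · exact fun h => absurd (Finset.mem_univ j) h
  have havg0 : ∀ η : IrrCharacter G, η ≠ principal G → η ≠ θ → (∀ i, η ≠ c i) →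
      ∀ x : (P : Subgroup G), x ≠ 1 → avg p (η : G → ℂ) (x : G) = 0 := fun η h1 h2 h3 x hx => by
    rw [havg η x hx, Finset.sum_eq_zero fun i _ => by
      rw [hm, if_neg h1, if_neg h2, if_neg (h3 i)]; ring, neg_zero]
  have hmemB : ∀ η : IrrCharacter G, η ≠ principal G →
      (∑ x ∈ (Finset.univ : Finset ↥(P : Subgroup G)).erase 1, avg p (η : G → ℂ) (x : G)) ≠ 0 →
      η ∈ principalBlock M G := by
    intro η hne hs
    by_contra hnot
    apply hs
    have hB : IsPBlock M (principalBlock M G) := isPBlock_blockOf (principal G)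
    have h := classInner_pRegularPart_eq_zero hM hB (mem_blockOf_self hM (principal G)) hnot
    have h0 : classInner (principal G : G → ℂ) (η : G → ℂ) = 0 := classInner_irr_ne (Ne.symm hne)
    have hG : (Fintype.card G : ℂ) ≠ 0 := Nat.cast_ne_zero.2 Fintype.card_ne_zero
    have h2 := s.two_q_mul_sum_singular (isClassFunction_irr η)
    rw [classInner_def, mul_eq_zero] at h h0
    have hc0 : (Nat.card G : ℂ)⁻¹ ≠ 0 := inv_ne_zero (Nat.cast_ne_zero.2 Nat.card_pos.ne')
    have h' := h.resolve_left hc0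
    have h0' := h0.resolve_left hc0
    have h3 : ∑ g ∈ Finset.univ.filter (fun g => p ∣ orderOf g), (η : G → ℂ) g = 0 := by
      have h5 : ∀ g : G, (principal G : G → ℂ) g * conj ((η : G → ℂ) g) -
          pRegularPart p (principal G : G → ℂ) g * conj ((η : G → ℂ) g) =
          conj (if p ∣ orderOf g then (η : G → ℂ) g else 0) := fun g => by
        rw [show (principal G : G → ℂ) g = 1 from rfl, pRegularPart]
        simp only [IsPRegular]
        by_cases hd : p ∣ orderOf g
        · simp [hd]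
        · simp [hd, show (principal G : G → ℂ) g = 1 from rfl]
      have h4 := Finset.sum_congr rfl (fun g (_ : g ∈ (Finset.univ : Finset G)) => h5 g)
      rw [Finset.sum_sub_distrib, h0', h', sub_self, ← map_sum, ← Finset.sum_filter] at h4
      exact (map_eq_zero conj).1 h4.symm
    rw [h3, mul_zero] at h2
    exact (mul_eq_zero.1 h2.symm).resolve_left hG
  have hval : ∀ η ∈ principalBlock M G, ∀ g : G, p ∣ orderOf g →
      ∀ x : (P : Subgroup G), IsConj (x : G) (pp p g) →
        (η : G → ℂ) g = avg p (η : G → ℂ) (x : G) := by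
    intro η hη g hg x hx
    have hx1 : (x : G) ≠ 1 := fun h => by
      rw [h, isConj_one_right, pp_eq_one_iff] at hx
      exact hx hg
    have hconst : ∀ v ∈ reg p (x : G), (η : G → ℂ) ((x : G) * v) = (η : G → ℂ) (x : G) :=
      fun v hv => Cfsg.Agent.S0942.result p M hM (x : G) (s.orderOf_pow x.2) v
        ((s.reg_spec x.2 hx1).1 v hv) η hη
    rw [avg, Finset.sum_congr rfl hconst, Finset.sum_const, nsmul_eq_mul, mul_div_assoc,
      mul_div_cancel₀ _ (reg_card_ne _)]
    obtain ⟨a', ha'⟩ := isConj_iff.1 hx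
    obtain ⟨y, hy, hcy, -, hny⟩ := isPPart_pp (p := p) g
    have e : g = a' * ((x : G) * (a'⁻¹ * y * a')) * a'⁻¹ := by rw [← hy, ← ha']; group
    rw [e, isClassFunction_irr η, hconst]
    refine mem_reg.2 ⟨?_, ?_⟩
    · have hxe : (x : G) = a'⁻¹ * pp p g * a' := by rw [← ha']; group
      have := hcy.map (MulAut.conj a'⁻¹).toMonoidHom
      simpa [hxe, MulAut.conj_apply] using this
    · rw [show a'⁻¹ * y * a' = MulAut.conj a'⁻¹ y by simp, MulEquiv.orderOf_eq]
      exact hny
  have hx1' : ∀ {g : G}, p ∣ orderOf g → ∀ x : (P : Subgroup G), IsConj (x : G) (pp p g) → x ≠ 1 :=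
    fun {g} hg x hx h => by
      subst h
      rw [Subgroup.coe_one, isConj_one_right, pp_eq_one_iff] at hx
      exact hx hg
  have hqc : ((Finset.univ : Finset ↥(P : Subgroup G)).erase 1).card = q - 1 := by
    rw [Finset.card_erase_of_mem (Finset.mem_univ _), Finset.card_univ, hqF]
  have hθB : θ ∈ principalBlock M G := hmemB θ hθne (by
    rw [Finset.sum_congr rfl fun x hx => havgθ x (Finset.mem_erase.1 hx).1, Finset.sum_const, hqc,
      nsmul_eq_mul]
    refine mul_ne_zero (Nat.cast_ne_zero.2 (by omega)) ?_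
    rcases hδ with e | e <;> rw [e] <;> norm_num)
  have hcB : ∀ i, c i ∈ principalBlock M G := fun i => hmemB (c i) (hc1 i) (by
    rw [Finset.sum_congr rfl fun x hx => havgc i x (Finset.mem_erase.1 hx).1, ← Finset.mul_sum,
      Finset.sum_erase_eq_sub (Finset.mem_univ _), Finset.sum_add_distrib]
    rw [Homocyclic.sum_elems, Homocyclic.sum_elems, if_neg (hL1 _ i.2),
      if_neg (inv_ne_one.2 (hL1 _ i.2)), map_one, map_one, Units.val_one]
    exact mul_ne_zero (neg_ne_zero.2 hε0) (by norm_num))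
  refine ⟨{
    θ := θ, Φ := Finset.univ.image c, δ := a θ, e := -εz,
    δ_sq := hδ, e_sq := by omega
    θ_ne := hθne
    one_not_mem := by simpa using hc1
    θ_not_mem := by simpa [eq_comm] using hθc
    card := by rw [Finset.card_image_of_injective _ hcinj, Finset.card_univ, Fintype.card_coe]; omega
    θ_sing := fun g hg => ?_
    χ_reg := fun χ hχ g hg => ?_
    sum_sing := fun g hg => ?_
    θ_mem := hθB
    Φ_mem := fun χ hχ => by
      obtain ⟨i, -, rfl⟩ := Finset.mem_image.1 hχ
      exact hcB i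
    other := fun η hη h1 h2 h3 g hg => ?_ }⟩
  · obtain ⟨x, hx⟩ := s.exists_conj_pp g
    rw [hval θ hθB g hg x hx, havgθ x (hx1' hg x hx)]
  · obtain ⟨i, -, rfl⟩ := Finset.mem_image.1 hχ
    have h : Γ i.1 g = 0 := by
      show lift P (be i.1) g = 0
      rw [s.lift_eq (be_inv_arg _) (x := 1) (by rw [pp_eq_one_iff.2 hg]; rfl), be_at_one]
    rw [hΓl i] at h
    simp only [hεz] at h
    rcases hεzs with e | e <;> subst e <;> push_cast at h ⊢ <;>
      first | linear_combination h | linear_combination -h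
  · obtain ⟨x, hx⟩ := s.exists_conj_pp g
    rw [Finset.sum_image fun i _ j _ h => hcinj h, Finset.sum_congr rfl fun i _ => by
      rw [hval (c i) (hcB i) g hg x hx, havgc i x (hx1' hg x hx)], ← Finset.mul_sum,
      havgsum x (hx1' hg x hx), hεz]
    push_cast
    ring
  · obtain ⟨x, hx⟩ := s.exists_conj_pp g
    rw [hval η hη g hg x hx, havg0 η h1 h2 (fun i hi => h3 ?_) x (hx1' hg x hx)]
    exact Finset.mem_image.2 ⟨i, Finset.mem_univ _, hi.symm⟩

end Cfsg.Lib.SmithTyrer
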