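import Mathlib
import Cfsg.Agent.SmithTyrer.Exceptional
import Cfsg.Agent.Blocks.CanonicalCharacter
import Cfsg.Agent.Blocks.Transport
import Cfsg.Agent.Chars.Sums

/-!
# Lifting a pair of virtual characters to a central extension

The constituents of the twisted lifts of two virtual characters of the principal block take, on
regular elements, the values of a combination of two characters of the quotient.
-/

set_option autoImplicit false
set_option linter.unusedSectionVars false
set_option linter.style.haveILetI false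

namespace Cfsg.Lib.SmithTyrer

open Cfsg.Lib.Blocks Cfsg.Lib.Chars
open scoped Classical ComplexConjugate

universe u

variable {G : Type u} [Group G] [Fintype G] {p : ℕ} [hp : Fact p.Prime]

/-- Two sums of principal block characters vanishing on singular elements. -/
structure Pair (p : ℕ) (M : Ideal AlgInt) (G : Type u) [Group G] [Fintype G] where
  β : IrrCharacter G
  S₁ : Finset (IrrCharacter G)
  S₂ : Finset (IrrCharacter G)
  β_mem : β ∈ principalBlock M G
  sub₁ : ∀ η ∈ S₁, η ∈ principalBlock M G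
  sub₂ : ∀ η ∈ S₂, η ∈ principalBlock M G
  sing₁ : ∀ g : G, p ∣ orderOf g → ∑ η ∈ S₁, (η : G → ℂ) g = 0
  sing₂ : ∀ g : G, p ∣ orderOf g → ∑ η ∈ S₂, (η : G → ℂ) g = 0
  one_mem₁ : principal G ∈ S₁
  one_not_mem₂ : principal G ∉ S₂
  β_not_mem₁ : β ∉ S₁
  β_mem₂ : β ∈ S₂
  span : ∀ r : G → ℂ, (∀ g : G, p ∣ orderOf g → r g = 0) →
    classInner r (∑ η ∈ S₁, (η : G → ℂ)) = 0 → classInner r (∑ η ∈ S₂, (η : G → ℂ)) = 0 →
    ∀ η ∈ S₁ ∪ S₂, classInner r (η : G → ℂ) = 0
  other : ∀ η ∈ principalBlock M G, η ∉ S₁ → η ∉ S₂ →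
    ∀ g : G, p ∣ orderOf g → (η : G → ℂ) g = 0

lemma classInner_irr_sum (η : IrrCharacter G) (S : Finset (IrrCharacter G)) :
    classInner (η : G → ℂ) (∑ χ ∈ S, (χ : G → ℂ)) = if η ∈ S then 1 else 0 := by
  rw [classInner_sum_right]
  simp [classInner_irrCharacter]

lemma classInner_sum_sum (S T : Finset (IrrCharacter G)) :
    classInner (∑ χ ∈ S, (χ : G → ℂ)) (∑ χ ∈ T, (χ : G → ℂ)) = ((S ∩ T).card : ℂ) := by
  simp only [classInner_sum_left, classInner_irr_sum, Finset.sum_boole, Finset.filter_mem_eq_inter]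

lemma gen_irr_sum (S : Finset (IrrCharacter G)) :
    IsGeneralizedCharacter G (∑ χ ∈ S, (χ : G → ℂ)) :=
  IsCharacter.isGeneralized (IsCharacter.sum _ _ fun χ _ => isCharacter_of_irr χ.2)

lemma classInner_eq_of_regular {r f f' : G → ℂ} (hr : ∀ g : G, p ∣ orderOf g → r g = 0)
    (h : ∀ g : G, ¬ p ∣ orderOf g → f g = f' g) : classInner r f = classInner r f' := by
  rw [classInner_def, classInner_def]
  congr 1
  refine Finset.sum_congr rfl fun g _ => ?_
  by_cases hg : p ∣ orderOf g
  · rw [hr g hg, zero_mul, zero_mul]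
  · rw [h g hg]

lemma regPart_conj {g a : G} : p ∣ orderOf (a * g * a⁻¹) ↔ p ∣ orderOf g := by
  rw [show a * g * a⁻¹ = MulAut.conj a g by simp, MulEquiv.orderOf_eq]

lemma pp_inv (g : G) : pp p g⁻¹ = (pp p g)⁻¹ := by
  obtain ⟨y, hy, hc, ⟨k, hk⟩, hny⟩ := isPPart_pp (p := p) g
  refine pp_unique ⟨y⁻¹, ?_, hc.inv_inv, ⟨k, by rw [orderOf_inv, hk]⟩, by rwa [orderOf_inv]⟩
  rw [← mul_inv_rev, ← hc.eq, hy]

variable {H : Type u} [Group H] [Fintype H] {π : H →* G}

/-- A central extension by a group of order `p` inside the derived subgroup, with a non-trivial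
linear character of the kernel. -/
structure CExt (p : ℕ) (π : H →* G) (ζ : π.ker →* ℂˣ) : Prop where
  surj : Function.Surjective π
  central : π.ker ≤ Subgroup.center H
  pgroup : IsPGroup p π.ker
  comm : π.ker ≤ commutator H
  ne : ζ ≠ 1

/-- The regular part of a function on the extension, on the quotient. -/
noncomputable def res (p : ℕ) (π : H →* G) (ψ : H → ℂ) : G → ℂ := fun g =>
  ∑ y ∈ Finset.univ.filter (fun y => π y = g ∧ ¬ p ∣ orderOf y), ψ y

namespace CExt

variable {ζ : π.ker →* ℂˣ} (c : CExt p π ζ)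

include c

lemma pp_mem_iff {h : H} : pp p h ∈ π.ker ↔ ¬ p ∣ orderOf (π h) := by
  rw [MonoidHom.mem_ker, ← pp_map, pp_eq_one_iff]

lemma pp_central_mul (z : π.ker) (h : H) : pp p ((z : H) * h) = (z : H) * pp p h := by
  obtain ⟨y, hy, hc, ⟨k, hk⟩, hny⟩ := isPPart_pp (p := p) h
  obtain ⟨j, hj⟩ := IsPGroup.iff_orderOf.1 c.pgroup z
  have hzc : ∀ w : H, Commute (z : H) w := fun w =>
    (Subgroup.mem_center_iff.1 (c.central z.2) w).symm
  refine pp_unique ⟨y, by rw [mul_assoc, hy], (hzc y).mul_left hc, ?_, hny⟩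
  have h1 : ((z : H) * pp p h) ^ p ^ (j + k) = 1 := by
    rw [(hzc _).mul_pow, pow_add, pow_mul (z : H), mul_comm (p ^ j), pow_mul (pp p h), ← hk,
      pow_orderOf_eq_one, ← hj, ← Subgroup.orderOf_coe, pow_orderOf_eq_one]
    simp
  obtain ⟨i, -, hi⟩ := (Nat.dvd_prime_pow hp.out).1 (orderOf_dvd_of_pow_eq_one h1)
  exact ⟨i, hi⟩

lemma conj_ζ (z : π.ker) : conj ((ζ z : ℂˣ) : ℂ) * (ζ z : ℂ) = 1 := by
  have h1 : (ζ z : ℂ) ^ orderOf z = 1 := by
    rw [← Units.val_pow_eq_pow_val, ← map_pow, pow_orderOf_eq_one, map_one, Units.val_one]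
  have h2 := Complex.norm_eq_one_of_pow_eq_one h1 (orderOf_pos z).ne'
  rw [mul_comm, Complex.mul_conj, Complex.normSq_eq_norm_sq, h2]
  simp

lemma twist_central (F : G → ℂ) (z : π.ker) (h : H) :
    twist π π.ker ζ p F ((z : H) * h) = (ζ z : ℂ) * twist π π.ker ζ p F h := by
  have hπ : π ((z : H) * h) = π h := by rw [map_mul, MonoidHom.mem_ker.1 z.2, one_mul]
  by_cases hh : pp p h ∈ π.ker
  · have hzh : pp p ((z : H) * h) ∈ π.ker := by
      rw [c.pp_central_mul]; exact mul_mem z.2 hh
    rw [twist, twist, dif_pos hzh, dif_pos hh, hπ,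
      show (⟨pp p ((z : H) * h), hzh⟩ : π.ker) = z * ⟨pp p h, hh⟩ from
        Subtype.ext (c.pp_central_mul z h), map_mul, Units.val_mul, mul_assoc]
  · rw [twist, twist, dif_neg, dif_neg hh, mul_zero]
    rw [c.pp_central_mul]
    exact fun h' => hh (by simpa using mul_mem (inv_mem z.2) h')

lemma twist_reg (F : G → ℂ) {y : H} (hy : ¬ p ∣ orderOf y) :
    twist π π.ker ζ p F y = F (π y) := by
  have h1 : pp p y = 1 := pp_eq_one_iff.2 hy
  rw [twist, dif_pos (by rw [h1]; exact one_mem _)]
  rw [show (⟨pp p y, _⟩ : π.ker) = 1 from Subtype.ext h1, map_one, Units.val_one, one_mul]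

lemma twist_sing (F : G → ℂ) {h : H} (hh : p ∣ orderOf (π h)) :
    twist π π.ker ζ p F h = 0 := by
  rw [twist, dif_neg fun h' => c.pp_mem_iff.1 h' hh]

lemma exists_split {h : H} (hh : ¬ p ∣ orderOf (π h)) :
    ∃ (z : π.ker) (y : H), h = (z : H) * y ∧ ¬ p ∣ orderOf y ∧ π y = π h := by
  obtain ⟨y, hy, -, -, hny⟩ := isPPart_pp (p := p) h
  refine ⟨⟨pp p h, c.pp_mem_iff.2 hh⟩, y, hy.symm, hny, ?_⟩
  rw [← hy, map_mul, MonoidHom.mem_ker.1 (c.pp_mem_iff.2 hh), one_mul]

lemma eq_of_reg {y y' : H} (hy : ¬ p ∣ orderOf y) (hy' : ¬ p ∣ orderOf y') (h : π y = π y') :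
    y = y' := by
  have hk : y * y'⁻¹ ∈ π.ker := by rw [MonoidHom.mem_ker, map_mul, map_inv, h, mul_inv_cancel]
  have h1 := c.pp_central_mul ⟨_, hk⟩ y'
  rw [show ((⟨_, hk⟩ : π.ker) : H) * y' = y from inv_mul_cancel_right _ _, pp_eq_one_iff.2 hy,
    pp_eq_one_iff.2 hy', mul_one] at h1
  exact mul_inv_eq_one.1 h1.symm

lemma exists_reg {g : G} (hg : ¬ p ∣ orderOf g) : ∃ y : H, ¬ p ∣ orderOf y ∧ π y = g := by
  obtain ⟨h, rfl⟩ := c.surj g
  obtain ⟨-, y, -, hy, he⟩ := c.exists_split hg
  exact ⟨y, hy, he⟩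

lemma map_reg {y : H} (hy : ¬ p ∣ orderOf y) : ¬ p ∣ orderOf (π y) :=
  fun h => hy (h.trans (orderOf_map_dvd π y))

lemma res_reg (ψ : H → ℂ) {y : H} (hy : ¬ p ∣ orderOf y) : res p π ψ (π y) = ψ y := by
  rw [res, Finset.sum_eq_single y]
  · intro w hw hne
    obtain ⟨he, hw'⟩ := (Finset.mem_filter.1 hw).2
    exact absurd (c.eq_of_reg hw' hy he) hne
  · intro h
    exact absurd (Finset.mem_filter.2 ⟨Finset.mem_univ _, rfl, hy⟩) h

lemma res_sing (ψ : H → ℂ) {g : G} (hg : p ∣ orderOf g) : res p π ψ g = 0 :=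
  Finset.sum_eq_zero fun y hy => by
    obtain ⟨rfl, hy'⟩ := (Finset.mem_filter.1 hy).2
    exact absurd hg (c.map_reg hy')

lemma isClassFunction_res {ψ : H → ℂ} (hψ : IsClassFunction H ψ) :
    IsClassFunction G (res p π ψ) := by
  intro g a
  by_cases hg : p ∣ orderOf g
  · rw [c.res_sing ψ hg, c.res_sing ψ (regPart_conj.2 hg)]
  · obtain ⟨y, hy, rfl⟩ := c.exists_reg hg
    obtain ⟨b, rfl⟩ := c.surj a
    have hy' : ¬ p ∣ orderOf (b * y * b⁻¹) := fun h => hy (regPart_conj.1 h)
    rw [← map_inv, ← map_mul, ← map_mul, c.res_reg ψ hy', c.res_reg ψ hy, hψ]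

/-- Pairing with a lifted function. -/
lemma classInner_twist {ψ : H → ℂ} (hψ : ∀ (z : π.ker) (h : H), ψ ((z : H) * h) = (ζ z : ℂ) * ψ h)
    {F : G → ℂ} (hF : ∀ g : G, p ∣ orderOf g → F g = 0) :
    classInner ψ (twist π π.ker ζ p F) = classInner (res p π ψ) F := by
  rw [← classInner_comp_surjective π c.surj, classInner_def, classInner_def]
  congr 1
  refine Finset.sum_congr rfl fun h _ => ?_
  by_cases hh : p ∣ orderOf (π h)
  · rw [c.twist_sing F hh, hF _ hh, map_zero, mul_zero, mul_zero]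
  · obtain ⟨z, y, rfl, hy, he⟩ := c.exists_split hh
    rw [hψ, c.twist_central, c.twist_reg F hy, ← he, c.res_reg ψ hy, map_mul,
      show ((ζ z : ℂˣ) : ℂ) * ψ y * (conj ((ζ z : ℂˣ) : ℂ) * conj (F (π y))) =
        conj ((ζ z : ℂˣ) : ℂ) * (ζ z : ℂ) * (ψ y * conj (F (π y))) by ring, c.conj_ζ, one_mul]

lemma classInner_twist_twist {F F' : G → ℂ} (hF : ∀ g : G, p ∣ orderOf g → F g = 0)
    (hF' : ∀ g : G, p ∣ orderOf g → F' g = 0) :
    classInner (twist π π.ker ζ p F) (twist π π.ker ζ p F') = classInner F F' := by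
  rw [c.classInner_twist (c.twist_central F) hF']
  congr 1
  funext g
  by_cases hg : p ∣ orderOf g
  · rw [c.res_sing _ hg, hF g hg]
  · obtain ⟨y, hy, rfl⟩ := c.exists_reg hg
    rw [c.res_reg _ hy, c.twist_reg F hy]

/-- A constituent of a lift has central character `ζ`. -/
lemma central_of_ne (ψ : IrrCharacter H) {F : G → ℂ}
    (hne : classInner (ψ : H → ℂ) (twist π π.ker ζ p F) ≠ 0) (z : π.ker) (h : H) :
    (ψ : H → ℂ) ((z : H) * h) = (ζ z : ℂ) * (ψ : H → ℂ) h := by
  have h1 : (ψ : H → ℂ) 1 ≠ 0 := IsIrrCharacter.apply_one_ne_zero ψ.2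
  have hscal : ∀ w : H, (ψ : H → ℂ) ((z : H) * w) =
      (ψ : H → ℂ) z / (ψ : H → ℂ) 1 * (ψ : H → ℂ) w := fun w => by
    have hs := sum_class_products ψ.2 (z : H) 1 w
    have e1 : (Finset.univ.filter fun x : H => IsConj (z : H) x) = {(z : H)} := by
      ext x
      simp only [Finset.mem_filter, Finset.mem_univ, true_and, Finset.mem_singleton]
      refine ⟨fun hx => ?_, fun hx => hx ▸ IsConj.refl _⟩
      obtain ⟨a, rfl⟩ := isConj_iff.1 hx
      rw [Subgroup.mem_center_iff.1 (c.central z.2) a, mul_inv_cancel_right]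
    have e2 : (Finset.univ.filter fun x : H => IsConj (1 : H) x) = {(1 : H)} := by
      ext x
      simp [isConj_one_right, eq_comm]
    have n1 : Nat.card {x : H // IsConj (z : H) x} = 1 := by
      rw [Nat.card_eq_fintype_card, Fintype.card_subtype, e1, Finset.card_singleton]
    have n2 : Nat.card {x : H // IsConj (1 : H) x} = 1 := by
      rw [Nat.card_eq_fintype_card, Fintype.card_subtype, e2, Finset.card_singleton]
    rw [e1, e2, Finset.sum_singleton, Finset.sum_singleton, mul_one, n1, n2, Nat.cast_one, one_mul,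
      one_mul] at hs
    rw [hs]
    field_simp
  rw [hscal]
  congr 1
  set ω := (ψ : H → ℂ) z / (ψ : H → ℂ) 1
  have e : classInner (ψ : H → ℂ) (twist π π.ker ζ p F) =
      ω * conj ((ζ z : ℂˣ) : ℂ) * classInner (ψ : H → ℂ) (twist π π.ker ζ p F) := by
    rw [classInner_def]
    conv_lhs => rw [← Equiv.sum_comp (Equiv.mulLeft (z : H))]
    rw [Finset.mul_sum, Finset.mul_sum, Finset.mul_sum]
    refine Finset.sum_congr rfl fun w _ => ?_
    simp only [Equiv.coe_mulLeft, hscal, c.twist_central, map_mul]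
    ring
  have e2 : ω * conj ((ζ z : ℂˣ) : ℂ) = 1 := by
    refine mul_right_cancel₀ hne ?_
    rw [one_mul]
    exact e.symm
  calc ω = ω * (conj ((ζ z : ℂˣ) : ℂ) * (ζ z : ℂ)) := by rw [c.conj_ζ, mul_one]
    _ = (ζ z : ℂ) := by rw [← mul_assoc, e2, one_mul]

/-- No linear character has central character `ζ`. -/
lemma deg_ne_one {ψ : H → ℂ} (hψ : IsCharacter H ψ)
    (hc : ∀ (z : π.ker) (h : H), ψ ((z : H) * h) = (ζ z : ℂ) * ψ h) : ψ 1 ≠ 1 := by
  intro h1
  obtain ⟨f, rfl⟩ := exists_hom_of_deg_one hψ h1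
  refine c.ne (MonoidHom.ext fun z => Units.ext ?_)
  have hz : f (z : H) = 1 := Abelianization.commutator_subset_ker f (c.comm z.2)
  have h2 := hc z 1
  simp only [mul_one, hz, Units.val_one, map_one] at h2
  simpa using h2.symm

/-- The inflation of a character to the extension. -/
noncomputable def infl (η : IrrCharacter G) : IrrCharacter H :=
  ⟨fun h => (η : G → ℂ) (π h), IsIrrCharacter.comp_surjective η.2 π c.surj⟩

lemma infl_mem_iff {M : Ideal AlgInt} (hM : IsPModular p M) (η : IrrCharacter G) :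
    c.infl η ∈ principalBlock M H ↔ η ∈ principalBlock M G := by
  let e : H ⧸ π.ker ≃* G := QuotientGroup.quotientKerEquivOfSurjective π c.surj
  have he : ∀ h : H, e (h : H ⧸ π.ker) = π h := fun h => rfl
  have hval : ∀ χ : IrrCharacter G, (inflate π.ker (irrEquiv e χ) : H → ℂ) =
      fun h => (χ : G → ℂ) (π h) := fun χ => funext fun h => by
    rw [inflate_val, irrEquiv_apply, he]
  have h1 : (inflate π.ker (irrEquiv e (principal G)) : H → ℂ) = fun _ => 1 := hval _
  have h2 : (inflate π.ker (irrEquiv e η) : H → ℂ) = (c.infl η : H → ℂ) := hval η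
  have hreg : ∀ w : H, ¬ p ∣ orderOf w → w ∈ Subgroup.centralizer (π.ker : Set H) :=
    fun w _ => Subgroup.mem_centralizer_iff.2 fun y hy =>
      (Subgroup.mem_center_iff.1 (c.central hy) w).symm
  show SameBlock M (fun _ : H => (1 : ℂ)) (c.infl η : H → ℂ) ↔
    SameBlock M (fun _ : G => (1 : ℂ)) (η : G → ℂ)
  rw [← h1, ← h2]
  refine Iff.trans ⟨fun h => ?_, fun h => ?_⟩ (sameBlock_irrEquiv e (principal G) η)
  · exact sameBlock_of_inflate hM c.pgroup hreg h
  · exact sameBlock_inflate hM h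

lemma classInner_res_eq_zero {ψ : H → ℂ} (η : IrrCharacter G)
    (h : classInner (pRegularPart p ψ) (c.infl η : H → ℂ) = 0) :
    classInner (res p π ψ) (η : G → ℂ) = 0 := by
  have hH : (Nat.card H : ℂ)⁻¹ ≠ 0 := inv_ne_zero (Nat.cast_ne_zero.2 Nat.card_pos.ne')
  rw [classInner_def, mul_eq_zero, or_iff_right hH] at h
  rw [classInner_def]
  refine mul_eq_zero.2 (Or.inr ?_)
  rw [← h, ← Finset.sum_fiberwise Finset.univ π
    (fun x => pRegularPart p ψ x * conj ((c.infl η : H → ℂ) x))]
  refine Finset.sum_congr rfl fun g _ => ?_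
  rw [res, Finset.sum_mul, Finset.sum_filter, Finset.sum_filter]
  refine Finset.sum_congr rfl fun x _ => ?_
  rw [pRegularPart_apply]
  by_cases hx : π x = g
  · by_cases hd : p ∣ orderOf x
    · simp [hd]
    · rw [if_pos ⟨hx, hd⟩, if_pos hx, if_neg hd]
      show _ = ψ x * conj ((η : G → ℂ) (π x))
      rw [hx]
  · rw [if_neg fun h => hx h.1, if_neg hx]

/-- The values of a constituent of the two lifts. -/
theorem res_eq {M : Ideal AlgInt} (hM : IsPModular p M) (T : Pair p M G) (ψ : IrrCharacter H)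
    {a b : ℂ}
    (ha : classInner (ψ : H → ℂ) (twist π π.ker ζ p (∑ η ∈ T.S₁, (η : G → ℂ))) = a)
    (hb : classInner (ψ : H → ℂ) (twist π π.ker ζ p (∑ η ∈ T.S₂, (η : G → ℂ))) = b)
    (hne : a ≠ 0 ∨ b ≠ 0) :
    (∀ (z : π.ker) (h : H), (ψ : H → ℂ) ((z : H) * h) = (ζ z : ℂ) * (ψ : H → ℂ) h) ∧
      ∀ y : H, ¬ p ∣ orderOf y → (ψ : H → ℂ) y = a + b * (T.β : G → ℂ) (π y) := by
  set F₁ := ∑ η ∈ T.S₁, (η : G → ℂ) with hF₁
  set F₂ := ∑ η ∈ T.S₂, (η : G → ℂ) with hF₂
  have hs₁ : ∀ g : G, p ∣ orderOf g → F₁ g = 0 := fun g hg => by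
    rw [hF₁, Finset.sum_apply]; exact T.sing₁ g hg
  have hs₂ : ∀ g : G, p ∣ orderOf g → F₂ g = 0 := fun g hg => by
    rw [hF₂, Finset.sum_apply]; exact T.sing₂ g hg
  have hcent : ∀ (z : π.ker) (h : H),
      (ψ : H → ℂ) ((z : H) * h) = (ζ z : ℂ) * (ψ : H → ℂ) h := by
    rcases hne with h | h
    · exact c.central_of_ne ψ (ha ▸ h)
    · exact c.central_of_ne ψ (hb ▸ h)
  refine ⟨hcent, fun y hy => ?_⟩
  set R := res p π (ψ : H → ℂ) with hR
  have hRs : ∀ g : G, p ∣ orderOf g → R g = 0 := fun g => c.res_sing _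
  rw [c.classInner_twist hcent hs₁, ← hR] at ha
  rw [c.classInner_twist hcent hs₂, ← hR] at hb
  -- the principal block contains `ψ`
  have hB : ∀ {K : Type u} [Group K] [Fintype K], IsPBlock M (principalBlock M K) :=
    fun {K} _ _ => isPBlock_blockOf (principal K)
  have hψB : ψ ∈ principalBlock M H := by
    by_contra hn
    have h0 : ∀ η ∈ principalBlock M G, classInner R (η : G → ℂ) = 0 := fun η hη => by
      refine c.classInner_res_eq_zero η ?_
      exact classInner_pRegularPart_eq_zero hM (isPBlock_blockOf ψ) (mem_blockOf_self hM ψ)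
        fun hin => hn (by
          have h' := IsPBlock.eq_of_mem_inter hM hB (isPBlock_blockOf ψ)
            ((c.infl_mem_iff hM η).2 hη) hin
          rw [h']
          exact mem_blockOf_self hM ψ)
    rcases hne with h | h
    · refine h ?_
      rw [← ha, hF₁, classInner_sum_right]
      exact Finset.sum_eq_zero fun η hη => h0 η (T.sub₁ η hη)
    · refine h ?_
      rw [← hb, hF₂, classInner_sum_right]
      exact Finset.sum_eq_zero fun η hη => h0 η (T.sub₂ η hη)
  -- the difference is orthogonal to everything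
  set Q : G → ℂ := fun g => if p ∣ orderOf g then 0 else a + b * (T.β : G → ℂ) g with hQ
  have hQs : ∀ g : G, p ∣ orderOf g → Q g = 0 := fun g hg => if_pos hg
  have hQcf : IsClassFunction G Q := fun g k => by
    simp only [hQ, regPart_conj, isClassFunction_irr T.β g k]
  have hQinner : ∀ f : G → ℂ, (∀ g : G, p ∣ orderOf g → f g = 0) →
      classInner Q f = a * classInner (principal G : G → ℂ) f +
        b * classInner (T.β : G → ℂ) f := fun f hf => by
    rw [← classInner_smul_left, ← classInner_smul_left, ← classInner_add_left, classInner_def,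
      classInner_def]
    congr 1
    refine Finset.sum_congr rfl fun g _ => ?_
    by_cases hg : p ∣ orderOf g
    · simp [hf g hg]
    · simp only [hQ, if_neg hg, Pi.add_apply, Pi.smul_apply, smul_eq_mul]
      rw [show (principal G : G → ℂ) g = 1 from rfl, mul_one]
  set r : G → ℂ := R - Q with hr
  have hrs : ∀ g : G, p ∣ orderOf g → r g = 0 := fun g hg => by
    simp [hr, hRs g hg, hQs g hg]
  have hr₁ : classInner r F₁ = 0 := by
    rw [hr, classInner_sub_left, ha, hQinner F₁ hs₁, hF₁, classInner_irr_sum, classInner_irr_sum,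
      if_pos T.one_mem₁, if_neg T.β_not_mem₁]
    ring
  have hr₂ : classInner r F₂ = 0 := by
    rw [hr, classInner_sub_left, hb, hQinner F₂ hs₂, hF₂, classInner_irr_sum, classInner_irr_sum,
      if_neg T.one_not_mem₂, if_pos T.β_mem₂]
    ring
  have hzero : ∀ η : IrrCharacter G, classInner r (η : G → ℂ) = 0 := by
    intro η
    by_cases hS : η ∈ T.S₁ ∪ T.S₂
    · exact T.span r hrs hr₁ hr₂ η hS
    simp only [Finset.mem_union, not_or] at hS
    by_cases hη : η ∈ principalBlock M G
    · have hη0 := T.other η hη hS.1 hS.2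
      rw [hr, classInner_sub_left, hQinner _ hη0]
      have h1 : classInner (principal G : G → ℂ) (η : G → ℂ) = 0 :=
        classInner_irr_ne fun e => hS.1 (e ▸ T.one_mem₁)
      have h2 : classInner (T.β : G → ℂ) (η : G → ℂ) = 0 :=
        classInner_irr_ne fun e => hS.2 (e ▸ T.β_mem₂)
      rw [h1, h2, mul_zero, mul_zero, add_zero, sub_zero, hR, ← c.classInner_twist hcent hη0]
      set X := twist π π.ker ζ p (η : G → ℂ) with hX
      have hXg : IsGeneralizedCharacter H X := gen_twist π π.ker ζ c.central rfl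
        (IsCharacter.isGeneralized (isCharacter_of_irr η.2)) hη0
      have hX1 : classInner X X = 1 := by
        rw [hX, c.classInner_twist_twist hη0 hη0, classInner_irr_self]
      by_contra hne'
      have hor : ∀ F : G → ℂ, (∀ g : G, p ∣ orderOf g → F g = 0) →
          classInner F (η : G → ℂ) = 0 → classInner (res p π (ψ : H → ℂ)) F = 0 := by
        intro F hF hFη
        rw [← c.classInner_twist hcent hF]
        obtain ⟨m, hm⟩ := exists_int_decomp hXg
        have hco : ∀ χ : IrrCharacter H, classInner X (χ : H → ℂ) = m χ := fun χ => by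
          rw [hm, classInner_irrSum]
        have hsq : ∑ χ, m χ * m χ = 1 := by
          apply Int.cast_injective (α := ℂ)
          rw [hm, classInner_self_decomp] at hX1
          push_cast
          simpa using hX1
        have hmψ : m ψ ≠ 0 := fun e => hne' (by
          rw [← classInner_conj_symm, hco, e, Int.cast_zero, map_zero])
        have hrest : ∀ χ, χ ≠ ψ → m χ = 0 := fun χ hχ => by
          by_contra h3
          have h4 : m ψ * m ψ + m χ * m χ ≤ 1 := by
            rw [← hsq, ← Finset.sum_pair (f := fun x => m x * m x) (Ne.symm hχ)]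
            exact Finset.sum_le_univ_sum_of_nonneg fun x => mul_self_nonneg _
          have := mul_self_pos.2 hmψ
          have := mul_self_pos.2 h3
          omega
        have hXψ : X = (m ψ : ℂ) • (ψ : H → ℂ) := by
          rw [hm, Finset.sum_eq_single ψ (fun χ _ hχ => by rw [hrest χ hχ, Int.cast_zero, zero_smul])
            (fun h => absurd (Finset.mem_univ _) h)]
        have hXF : classInner X (twist π π.ker ζ p F) = 0 := by
          rw [hX, c.classInner_twist_twist hη0 hF, ← classInner_conj_symm, hFη, map_zero]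
        rw [hXψ, classInner_smul_left] at hXF
        exact (mul_eq_zero.1 hXF).resolve_left (Int.cast_ne_zero.2 hmψ)
      rcases hne with h | h
      · refine h ?_
        rw [← ha]
        refine hor F₁ hs₁ ?_
        rw [← classInner_conj_symm, hF₁, classInner_irr_sum, if_neg hS.1, map_zero]
      · refine h ?_
        rw [← hb]
        refine hor F₂ hs₂ ?_
        rw [← classInner_conj_symm, hF₂, classInner_irr_sum, if_neg hS.2, map_zero]
    · have hR0 : classInner R (η : G → ℂ) = 0 :=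
        c.classInner_res_eq_zero η (classInner_pRegularPart_eq_zero hM hB hψB
          fun h => hη ((c.infl_mem_iff hM η).1 h))
      have hP : ∀ χ ∈ principalBlock M G,
          classInner (fun g => if p ∣ orderOf g then 0 else (χ : G → ℂ) g) (η : G → ℂ) = 0 := by
        intro χ hχ
        have h := classInner_pRegularPart_eq_zero hM hB hχ hη
        rwa [show pRegularPart p (χ : G → ℂ) = fun g => if p ∣ orderOf g then 0 else (χ : G → ℂ) g
          from funext fun g => pRegularPart_apply p _ g] at h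
      have eQ : Q = a • (fun g => if p ∣ orderOf g then 0 else (principal G : G → ℂ) g) +
          b • (fun g => if p ∣ orderOf g then 0 else (T.β : G → ℂ) g) := by
        funext g
        simp only [hQ, Pi.add_apply, Pi.smul_apply, smul_eq_mul]
        by_cases hg : p ∣ orderOf g
        · simp [hg]
        · rw [if_neg hg, if_neg hg, if_neg hg, show (principal G : G → ℂ) g = 1 from rfl, mul_one]
      rw [hr, classInner_sub_left, hR0, eQ, classInner_add_left, classInner_smul_left,
        classInner_smul_left, hP _ (T.sub₁ _ T.one_mem₁), hP _ T.β_mem]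
      ring
  have h0 : r = 0 := eq_zero_of_classInner_eq_zero
    (fun g k => by simp [hr, c.isClassFunction_res (isClassFunction_irr ψ) g k, hQcf g k, hR])
    hzero
  have h1 := congrFun h0 (π y)
  simp only [hr, Pi.sub_apply, Pi.zero_apply, sub_eq_zero, hR, c.res_reg _ hy, hQ,
    if_neg (c.map_reg hy)] at h1
  exact h1

/-- The regular lifts of a class. -/
lemma sum_class {t : G} {t' : H} (ht' : ¬ p ∣ orderOf t') (hπ : π t' = t) (f : G → ℂ) :
    ∑ u ∈ Finset.univ.filter (IsConj t'), f (π u) =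
      ∑ u ∈ Finset.univ.filter (IsConj t), f u := by
  subst hπ
  refine Finset.sum_bij (fun u _ => π u) (fun u hu => ?_) (fun u hu v hv he => ?_)
    (fun w hw => ?_) (fun u _ => rfl)
  · exact Finset.mem_filter.2 ⟨Finset.mem_univ _, π.map_isConj (Finset.mem_filter.1 hu).2⟩
  · obtain ⟨a, rfl⟩ := isConj_iff.1 (Finset.mem_filter.1 hu).2
    obtain ⟨b, rfl⟩ := isConj_iff.1 (Finset.mem_filter.1 hv).2
    exact c.eq_of_reg (fun h => ht' (regPart_conj.1 h)) (fun h => ht' (regPart_conj.1 h)) he
  · obtain ⟨a, rfl⟩ := isConj_iff.1 (Finset.mem_filter.1 hw).2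
    obtain ⟨b, rfl⟩ := c.surj a
    exact ⟨b * t' * b⁻¹, Finset.mem_filter.2 ⟨Finset.mem_univ _, isConj_iff.2 ⟨b, rfl⟩⟩,
      by simp⟩

/-- The two ways of counting products of two involutions. -/
theorem identity (hodd : p ≠ 2) {F : G → ℂ} (hF : IsGeneralizedCharacter G F)
    (hF0 : ∀ g : G, p ∣ orderOf g → F g = 0) {t : G} (ht2 : t * t = 1) {t' : H}
    (ht' : ¬ p ∣ orderOf t') (hπ : π t' = t) :
    ∑ ψ : IrrCharacter H, classInner (twist π π.ker ζ p F) (ψ : H → ℂ) *
        ((ψ : H → ℂ) t' * (ψ : H → ℂ) t') / (ψ : H → ℂ) 1 =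
      ∑ η : IrrCharacter G, classInner F (η : G → ℂ) *
        ((η : G → ℂ) t * (η : G → ℂ) t) / (η : G → ℂ) 1 := by
  have hX := gen_twist π π.ker ζ c.central rfl hF hF0
  set X := twist π π.ker ζ p F with hXdef
  set K' := Finset.univ.filter (fun u : H => IsConj t' u) with hK'
  set K := Finset.univ.filter (fun u : G => IsConj t u) with hK
  have hcardK : (K'.card : ℂ) = K.card := by
    have h := c.sum_class ht' hπ (fun _ => 1)
    rwa [Finset.sum_const, Finset.sum_const, nsmul_one, nsmul_one] at h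
  have hnK : (Nat.card {x : G // IsConj t x} : ℂ) = K.card := by
    rw [Nat.card_eq_fintype_card, Fintype.card_subtype]
  have hnK' : (Nat.card {x : H // IsConj t' x} : ℂ) = K'.card := by
    rw [Nat.card_eq_fintype_card, Fintype.card_subtype]
  have hK0 : (K.card : ℂ) ≠ 0 := Nat.cast_ne_zero.2
    (Finset.card_pos.2 ⟨t, Finset.mem_filter.2 ⟨Finset.mem_univ _, IsConj.refl _⟩⟩).ne'
  have hlhs : ∀ {L : Type u} [Group L] [Fintype L] {f : L → ℂ} (hf : IsClassFunction L f) (s : L),
      ∑ u ∈ Finset.univ.filter (IsConj s), ∑ v ∈ Finset.univ.filter (IsConj s), f (u * v) =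
        (Nat.card {x : L // IsConj s x} : ℂ) * Nat.card {x : L // IsConj s x} *
          ∑ χ : IrrCharacter L, classInner f (χ : L → ℂ) *
            ((χ : L → ℂ) s * (χ : L → ℂ) s) / (χ : L → ℂ) 1 := by
    intro L _ _ f hf s
    rw [Finset.sum_congr rfl fun u _ => Finset.sum_congr rfl fun v _ =>
      classFunction_expand_apply hf (u * v)]
    rw [Finset.sum_congr rfl fun u _ => Finset.sum_comm, Finset.sum_comm, Finset.mul_sum]
    refine Finset.sum_congr rfl fun χ _ => ?_
    have h := sum_class_products χ.2 s s 1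
    simp only [mul_one] at h
    simp only [← Finset.mul_sum, h]
    field_simp [IsIrrCharacter.apply_one_ne_zero χ.2]
  have hsum : ∑ u ∈ K', ∑ v ∈ K', X (u * v) = ∑ u ∈ K, ∑ v ∈ K, F (u * v) := by
    have e : ∀ u ∈ K', ∀ v ∈ K', X (u * v) = F (π u * π v) := by
      intro u hu v hv
      have hinv : ∀ w ∈ K', w * w = 1 := fun w hw => by
        obtain ⟨a, rfl⟩ := isConj_iff.1 (Finset.mem_filter.1 hw).2
        have h2 : t' * t' = 1 := by
          refine c.eq_of_reg ?_ (by simpa using hp.out.ne_one) (by rw [map_mul, hπ, ht2, map_one])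
          rw [← pow_two]
          exact fun h => ht' (h.trans (orderOf_pow_dvd 2))
        calc a * t' * a⁻¹ * (a * t' * a⁻¹) = a * (t' * t') * a⁻¹ := by group
          _ = 1 := by rw [h2]; group
      rw [← map_mul, hXdef]
      by_cases hg : p ∣ orderOf (π (u * v))
      · rw [c.twist_sing F hg, hF0 _ hg]
      · refine c.twist_reg F ?_
        rw [← pp_eq_one_iff]
        set z := pp p (u * v) with hz
        have hzk : z ∈ π.ker := c.pp_mem_iff.2 hg
        have hzc := Subgroup.mem_center_iff.1 (c.central hzk) u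
        have e1 : u * (u * v) * u⁻¹ = (u * v)⁻¹ := by
          rw [mul_inv_rev, inv_eq_of_mul_eq_one_right (hinv u hu),
            inv_eq_of_mul_eq_one_right (hinv v hv), ← mul_assoc u u v, hinv u hu, one_mul]
        have h1 := pp_conj (p := p) (u * v) u
        rw [e1, pp_inv, ← hz, hzc, mul_inv_cancel_right] at h1
        obtain ⟨k, hk⟩ := pp_pGroup (p := p) (u * v)
        rw [← hz] at hk
        have h2 : z ^ 2 = 1 := by
          rw [pow_two]; nth_rewrite 1 [← h1]; exact inv_mul_cancel z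
        have h3 : orderOf z ∣ 1 := by
          rw [← Nat.coprime_primes Nat.prime_two hp.out |>.mpr (Ne.symm hodd) |>.pow_right k]
          exact Nat.dvd_gcd (orderOf_dvd_of_pow_eq_one h2) (hk ▸ dvd_refl _)
        exact orderOf_eq_one_iff.1 (Nat.dvd_one.1 h3)
    rw [Finset.sum_congr rfl fun u hu => Finset.sum_congr rfl (e u hu),
      Finset.sum_congr rfl fun u _ => c.sum_class ht' hπ fun w => F (π u * w),
      c.sum_class ht' hπ fun w => ∑ v ∈ K, F (w * v)]
  rw [hK', hK, hlhs (isClassFunction_generalized hX), hlhs (isClassFunction_generalized hF),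
    hnK', hnK, hcardK] at hsum
  exact mul_left_cancel₀ (mul_ne_zero hK0 hK0) hsum

end CExt

end Cfsg.Lib.SmithTyrer
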