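import Mathlib
import Cfsg.Agent.SmithTyrer.Lifting
import Cfsg.Agent.Chars.Values

/-!
# The degree of the exceptional character `θ`

The two ways of counting products of two involutions in a central extension force `θ` to be
linear and to take the value `1` on singular elements.
-/

set_option autoImplicit false
set_option linter.unusedSectionVars false
set_option linter.style.haveILetI false

namespace Cfsg.Lib.SmithTyrer

open Cfsg.Lib.Blocks Cfsg.Lib.Chars
open scoped Classical ComplexConjugate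

universe u

/-- Integers with squares summing to `2`. -/
lemma exists_two {ι : Type*} [Fintype ι] (w : ι → ℤ) (h : ∑ i, w i * w i = 2) :
    ∃ i j, i ≠ j ∧ (w i = 1 ∨ w i = -1) ∧ (w j = 1 ∨ w j = -1) ∧
      ∀ k, k ≠ i → k ≠ j → w k = 0 := by
  obtain ⟨i, -, hi⟩ := Finset.exists_ne_zero_of_sum_ne_zero
    (show ∑ i, w i * w i ≠ 0 by rw [h]; norm_num)
  have hi' : w i ≠ 0 := fun e => hi (by rw [e, mul_zero])
  rw [← Finset.add_sum_erase _ _ (Finset.mem_univ i)] at h
  have hnn : 0 ≤ ∑ k ∈ Finset.univ.erase i, w k * w k :=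
    Finset.sum_nonneg fun k _ => mul_self_nonneg _
  have h1 : -1 ≤ w i ∧ w i ≤ 1 := ⟨by nlinarith, by nlinarith⟩
  have hw : w i = 1 ∨ w i = -1 := by omega
  have hrest : ∑ k ∈ Finset.univ.erase i, w k * w k = 1 := by
    rcases hw with e | e <;> rw [e] at h <;> linarith
  obtain ⟨j, hj, hj'⟩ := Finset.exists_ne_zero_of_sum_ne_zero (hrest.symm ▸ one_ne_zero)
  rw [← Finset.add_sum_erase _ _ hj] at hrest
  have hnn' : 0 ≤ ∑ k ∈ (Finset.univ.erase i).erase j, w k * w k :=
    Finset.sum_nonneg fun k _ => mul_self_nonneg _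
  have hpos : 0 < w j * w j := lt_of_le_of_ne (mul_self_nonneg _) (Ne.symm hj')
  have hout : ∑ k ∈ (Finset.univ.erase i).erase j, w k * w k = 0 := by omega
  refine ⟨i, j, (Finset.mem_erase.1 hj).1.symm, hw,
    mul_self_eq_one_iff.1 (by omega), fun k hki hkj => ?_⟩
  have := (Finset.sum_eq_zero_iff_of_nonneg fun x _ => mul_self_nonneg (w x)).1 hout k
    (by simp [hki, hkj])
  simpa using this

variable {G : Type u} [Group G] [Fintype G] {p : ℕ} [hp : Fact p.Prime]
  {P : Sylow p G} {τ : G} {H : Type u} [Group H] [Fintype H] {π : H →* G} {ζ : π.ker →* ℂˣ}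
  {M : Ideal AlgInt}

/-- The group has an involution. -/
lemma Setup.exists_involution (s : Setup P τ) (hP : (P : Subgroup G) ≠ ⊥) :
    ∃ t : G, t ≠ 1 ∧ t * t = 1 ∧ ¬ p ∣ orderOf t := by
  have h2 : 2 ∣ Nat.card G := by
    by_contra hc
    obtain ⟨x, hx⟩ := Subgroup.ne_bot_iff_exists_ne_one.1 hP
    have hodd : ¬ 2 ∣ orderOf τ := fun h => hc (h.trans (orderOf_dvd_natCard τ))
    have key : ∀ n : ℕ, τ ^ n * (x : G) * (τ ^ n)⁻¹ =
        if Even n then (x : G) else (x : G)⁻¹ := by
      intro n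
      induction n with
      | zero => simp
      | succ n ih =>
        rw [pow_succ', mul_inv_rev, show τ * τ ^ n * (x : G) * ((τ ^ n)⁻¹ * τ⁻¹) =
          τ * (τ ^ n * (x : G) * (τ ^ n)⁻¹) * τ⁻¹ by group, ih]
        by_cases hn : Even n
        · rw [if_pos hn, if_neg (Nat.not_even_iff_odd.2 hn.add_one), s.inverts _ x.2]
        · rw [if_neg hn, if_pos (Nat.not_even_iff_odd.1 hn).add_one, s.inverts _ (inv_mem x.2),
            inv_inv]
    have h := key (orderOf τ)
    rw [pow_orderOf_eq_one, inv_one, one_mul, mul_one,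
      if_neg (fun he => hodd he.two_dvd)] at h
    exact s.inv_ne x.2 (fun e => hx (Subtype.ext e)) h.symm
  haveI : Fact (Nat.Prime 2) := ⟨Nat.prime_two⟩
  obtain ⟨t, ht⟩ := exists_prime_orderOf_dvd_card' (G := G) 2 h2
  refine ⟨t, fun h => ?_, ?_, fun h => ?_⟩
  · rw [h, orderOf_one] at ht; norm_num at ht
  · rw [← pow_two, ← ht, pow_orderOf_eq_one]
  · rw [ht, Nat.prime_dvd_prime_iff_eq hp.out Nat.prime_two] at h
    exact s.odd h

lemma classInner_sum_irr (S : Finset (IrrCharacter G)) (η : IrrCharacter G) :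
    classInner (∑ χ ∈ S, (χ : G → ℂ)) (η : G → ℂ) = if η ∈ S then 1 else 0 := by
  rw [classInner_sum_left]
  simp [classInner_irrCharacter]

/-- The coefficients of the lifts and their relations. -/
lemma exists_coeffs (c : CExt p π ζ) (hodd : p ≠ 2) (hM : IsPModular p M) (T : Pair p M G)
    {t : G} (ht2 : t * t = 1) (htr : ¬ p ∣ orderOf t) :
    ∃ a b : IrrCharacter H → ℤ,
      (∑ ψ, a ψ * a ψ = ((T.S₁ ∩ T.S₁).card : ℤ)) ∧
      (∑ ψ, a ψ * b ψ = ((T.S₁ ∩ T.S₂).card : ℤ)) ∧
      (∑ ψ, b ψ * b ψ = ((T.S₂ ∩ T.S₂).card : ℤ)) ∧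
      ∃ x y : IrrCharacter H → ℂ,
        (∑ ψ, (a ψ : ℂ) * (y ψ * y ψ) / x ψ =
          ∑ η ∈ T.S₁, (η : G → ℂ) t * (η : G → ℂ) t / (η : G → ℂ) 1) ∧
        (∀ ψ, x ψ ≠ 0) ∧
        ∀ ψ, (a ψ ≠ 0 ∨ b ψ ≠ 0) →
          x ψ = a ψ + b ψ * (T.β : G → ℂ) 1 ∧ y ψ = a ψ + b ψ * (T.β : G → ℂ) t ∧
          ∃ n : ℕ, 2 ≤ n ∧ x ψ = n := by
  have hs₁ : ∀ g : G, p ∣ orderOf g → (∑ η ∈ T.S₁, (η : G → ℂ)) g = 0 := fun g hg => by
    rw [Finset.sum_apply]; exact T.sing₁ g hg
  have hs₂ : ∀ g : G, p ∣ orderOf g → (∑ η ∈ T.S₂, (η : G → ℂ)) g = 0 := fun g hg => by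
    rw [Finset.sum_apply]; exact T.sing₂ g hg
  set F₁ := ∑ η ∈ T.S₁, (η : G → ℂ) with hF₁
  set F₂ := ∑ η ∈ T.S₂, (η : G → ℂ) with hF₂
  obtain ⟨a, ha⟩ := exists_int_decomp
    (gen_twist π π.ker ζ c.central rfl (gen_irr_sum T.S₁) hs₁)
  obtain ⟨b, hb⟩ := exists_int_decomp
    (gen_twist π π.ker ζ c.central rfl (gen_irr_sum T.S₂) hs₂)
  rw [← hF₁] at ha
  rw [← hF₂] at hb
  have hca : ∀ ψ : IrrCharacter H,
      classInner (ψ : H → ℂ) (twist π π.ker ζ p F₁) = (a ψ : ℂ) := fun ψ => by
    rw [← classInner_conj_symm, ha, classInner_irrSum, map_intCast]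
  have hcb : ∀ ψ : IrrCharacter H,
      classInner (ψ : H → ℂ) (twist π π.ker ζ p F₂) = (b ψ : ℂ) := fun ψ => by
    rw [← classInner_conj_symm, hb, classInner_irrSum, map_intCast]
  refine ⟨a, b, ?_, ?_, ?_, fun ψ => (ψ : H → ℂ) 1, ?_⟩
  · apply Int.cast_injective (α := ℂ)
    push_cast
    rw [← classInner_sum_sum, ← hF₁, ← c.classInner_twist_twist hs₁ hs₁]
    nth_rewrite 1 [ha]
    rw [classInner_sum_left]
    simp only [classInner_smul_left, hca]
  · apply Int.cast_injective (α := ℂ)
    push_cast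
    rw [← classInner_sum_sum, ← hF₁, ← hF₂, ← c.classInner_twist_twist hs₁ hs₂]
    rw [ha, classInner_sum_left]
    simp only [classInner_smul_left, hcb]
  · apply Int.cast_injective (α := ℂ)
    push_cast
    rw [← classInner_sum_sum, ← hF₂, ← c.classInner_twist_twist hs₂ hs₂]
    nth_rewrite 1 [hb]
    rw [classInner_sum_left]
    simp only [classInner_smul_left, hcb]
  obtain ⟨t', ht', hπ⟩ := c.exists_reg htr
  refine ⟨fun ψ => (ψ : H → ℂ) t', ?_, fun ψ => IsIrrCharacter.apply_one_ne_zero ψ.2,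
    fun ψ hne => ?_⟩
  · have h := c.identity hodd (gen_irr_sum T.S₁) hs₁ ht2 ht' hπ
    rw [← hF₁] at h
    have e1 : ∀ ψ : IrrCharacter H,
        classInner (twist π π.ker ζ p F₁) (ψ : H → ℂ) = (a ψ : ℂ) := fun ψ => by
      rw [← classInner_conj_symm, hca, map_intCast]
    simp only [e1] at h
    rw [h]
    simp only [hF₁, classInner_sum_irr, ite_mul, ite_div, one_mul, zero_mul, zero_div,
      Finset.sum_ite_mem, Finset.univ_inter]
  · obtain ⟨hc, hv⟩ := c.res_eq hM T ψ (hca ψ) (hcb ψ)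
      (by simpa only [ne_eq, Int.cast_eq_zero] using hne)
    have h1 : ¬ p ∣ orderOf (1 : H) := by simpa using hp.out.ne_one
    refine ⟨by simpa using hv 1 h1, by simpa [hπ] using hv t' ht', ?_⟩
    obtain ⟨n, hn, he⟩ := IsIrrCharacter.apply_one ψ.2
    refine ⟨n, ?_, he⟩
    by_contra hlt
    obtain rfl : n = 1 := by omega
    exact c.deg_ne_one (isCharacter_of_irr ψ.2) hc (by simpa using he)

set_option maxHeartbeats 4000000 in
theorem Exc.degree_one (s : Setup P τ) (E : Exc P M) (c : CExt p π ζ) (hM : IsPModular p M)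
    (hq : 9 ≤ Nat.card P) (hcore : ∀ N : Subgroup G, N.Normal → ¬ p ∣ Nat.card N → N = ⊥) :
    E.δ = 1 ∧ (E.θ : G → ℂ) 1 = 1 := by
  obtain ⟨f, hf, hf1⟩ := IsIrrCharacter.apply_one E.θ.2
  have hPne : (P : Subgroup G) ≠ ⊥ := fun h => by
    have : Nat.card P = 1 := by rw [show Nat.card P = Nat.card (P : Subgroup G) from rfl, h]; simp
    omega
  obtain ⟨t, htne, ht2, htr⟩ := s.exists_involution hPne
  have h1r : ¬ p ∣ orderOf (1 : G) := by simpa using hp.out.ne_one
  -- the case of a kernel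
  have key : (E.θ : G → ℂ) t = (E.θ : G → ℂ) 1 → E.δ = 1 ∧ (E.θ : G → ℂ) 1 = 1 := by
    intro h
    set N := kerSubgroup (E.θ : G → ℂ) (isCharacter_of_irr E.θ.2) with hN
    have hNn : N.Normal := kerSubgroup_normal _
    have hdvd : p ∣ Nat.card N := by
      by_contra hc
      have h2 : t ∈ N := h
      rw [hcore N hNn hc, Subgroup.mem_bot] at h2
      exact htne h2
    obtain ⟨x, hx⟩ := exists_prime_orderOf_dvd_card' (G := N) p hdvd
    have hxs : p ∣ orderOf (x : G) := by rw [Subgroup.orderOf_coe, hx]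
    have h3 : (E.δ : ℂ) = (f : ℂ) := by
      rw [← E.θ_sing _ hxs, ← hf1]; exact x.2
    have h4 : E.δ = (f : ℤ) := by exact_mod_cast h3
    rcases E.δ_sq with e | e
    · refine ⟨e, ?_⟩
      rw [hf1]
      have : f = 1 := by omega
      rw [this, Nat.cast_one]
    · omega
  set A := (E.θ : G → ℂ) t with hA
  set N := E.Φ.card with hNdef
  have hN4 : 4 ≤ N := by have := E.card; omega
  obtain ⟨χ₀, hχ₀⟩ := Finset.card_pos.1 (show 0 < E.Φ.card by omega)
  obtain ⟨n₀, hn₀, hχ1⟩ := IsIrrCharacter.apply_one χ₀.2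
  have he1 : (n₀ : ℤ) = E.e * (1 + E.δ * f) := by
    have h := E.χ_reg χ₀ hχ₀ 1 h1r
    rw [hχ1, hf1] at h
    exact_mod_cast h
  have hone : ∀ g : G, (principal G : G → ℂ) g = 1 := fun g => rfl
  rcases E.δ_sq with hδ | hδ
  · -- `δ = 1`
    have he : E.e = 1 := by
      rcases E.e_sq with e | e
      · exact e
      · rw [e, hδ] at he1; omega
    have hχ : ∀ χ ∈ E.Φ, ∀ g : G, ¬ p ∣ orderOf g →
        (χ : G → ℂ) g = 1 + (E.θ : G → ℂ) g := fun χ hχ g hg => by
      rw [E.χ_reg χ hχ g hg, he, hδ]; simp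
    let T : Pair p M G :=
      { β := E.θ
        S₁ := insert (principal G) E.Φ
        S₂ := insert E.θ E.Φ
        β_mem := E.θ_mem
        sub₁ := fun η hη => by
          rcases Finset.mem_insert.1 hη with rfl | h
          · exact mem_blockOf_self hM (principal G)
          · exact E.Φ_mem η h
        sub₂ := fun η hη => by
          rcases Finset.mem_insert.1 hη with rfl | h
          · exact E.θ_mem
          · exact E.Φ_mem η h
        sing₁ := fun g hg => by
          rw [Finset.sum_insert E.one_not_mem, E.sum_sing g hg, he, hone]; simp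
        sing₂ := fun g hg => by
          rw [Finset.sum_insert E.θ_not_mem, E.sum_sing g hg, he, E.θ_sing g hg, hδ]; simp
        one_mem₁ := Finset.mem_insert_self _ _
        one_not_mem₂ := by simp [Ne.symm E.θ_ne, E.one_not_mem]
        β_not_mem₁ := by simp [E.θ_ne, E.θ_not_mem]
        β_mem₂ := Finset.mem_insert_self _ _
        span := fun r hr h1 h2 η hη => by
          set u := classInner r (principal G : G → ℂ) with hu
          set v := classInner r (E.θ : G → ℂ) with hv
          have hc : ∀ χ ∈ E.Φ, classInner r (χ : G → ℂ) = u + v := fun χ hmem => by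
            rw [hu, hv, ← classInner_add_right]
            exact classInner_eq_of_regular hr fun g hg => by
              rw [hχ χ hmem g hg, Pi.add_apply, hone]
          rw [classInner_sum_right, Finset.sum_insert E.one_not_mem, Finset.sum_congr rfl hc,
            Finset.sum_const, nsmul_eq_mul, ← hu] at h1
          rw [classInner_sum_right, Finset.sum_insert E.θ_not_mem, Finset.sum_congr rfl hc,
            Finset.sum_const, nsmul_eq_mul, ← hv] at h2
          have hne : (2 * (E.Φ.card : ℂ) + 1) ≠ 0 := by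
            exact_mod_cast Nat.succ_ne_zero (2 * E.Φ.card)
          have huv : u + v = 0 :=
            (mul_eq_zero.1 (show (2 * (E.Φ.card : ℂ) + 1) * (u + v) = 0 by
              linear_combination h1 + h2)).resolve_left hne
          rw [huv, mul_zero, add_zero] at h1 h2
          simp only [Finset.mem_union, Finset.mem_insert] at hη
          rcases hη with (rfl | h) | (rfl | h)
          · exact h1
          · rw [hc η h, huv]
          · exact h2
          · rw [hc η h, huv]
        other := fun η hη h1 h2 => by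
          simp only [Finset.mem_insert, not_or] at h1 h2
          exact E.other η hη h1.1 h2.1 h1.2 }
    obtain ⟨a, b, haa, hab, hbb, x, y, hid, hx0, hxy⟩ := exists_coeffs c s.odd hM T ht2 htr
    have hS11 : (T.S₁ ∩ T.S₁).card = N + 1 := by
      rw [Finset.inter_self]; exact Finset.card_insert_of_notMem E.one_not_mem
    have hS22 : (T.S₂ ∩ T.S₂).card = N + 1 := by
      rw [Finset.inter_self]; exact Finset.card_insert_of_notMem E.θ_not_mem
    have hS12 : (T.S₁ ∩ T.S₂).card = N := by
      rw [show T.S₁ ∩ T.S₂ = E.Φ from ?_]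
      ext η
      simp only [T, Finset.mem_inter, Finset.mem_insert]
      refine ⟨fun h => ?_, fun h => ⟨Or.inr h, Or.inr h⟩⟩
      rcases h with ⟨h1 | h1, h2⟩
      · rcases h2 with h2 | h2
        · exact absurd (h2.symm.trans h1) E.θ_ne
        · exact h2
      · exact h1
    rw [hS11] at haa
    rw [hS22] at hbb
    rw [hS12] at hab
    have hR : ∑ η ∈ T.S₁, (η : G → ℂ) t * (η : G → ℂ) t / (η : G → ℂ) 1 =
        1 + (N : ℂ) * ((1 + A) * (1 + A) / (1 + (f : ℂ))) := by
      show ∑ η ∈ insert (principal G) E.Φ, _ = _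
      rw [Finset.sum_insert E.one_not_mem, hone, hone, Finset.sum_congr rfl fun χ hm => by
        rw [hχ χ hm t htr, hχ χ hm 1 h1r, hf1, ← hA], Finset.sum_const, nsmul_eq_mul]
      simp [hNdef]
    rw [hR] at hid
    set e : IrrCharacter H → ℤ := fun ψ => a ψ - b ψ with hedef
    have hee : ∑ ψ, e ψ * e ψ = 2 := by
      have h : ∀ ψ, e ψ * e ψ = a ψ * a ψ + b ψ * b ψ - 2 * (a ψ * b ψ) := fun ψ => by
        simp only [hedef]; ring
      rw [Finset.sum_congr rfl fun ψ _ => h ψ, Finset.sum_sub_distrib, Finset.sum_add_distrib,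
        ← Finset.mul_sum, haa, hab, hbb]
      push_cast; ring
    have hae : ∑ ψ, a ψ * e ψ = 1 := by
      simp only [hedef, mul_sub, Finset.sum_sub_distrib, haa, hab]
      push_cast; ring
    set φ : ℂ := 1 + (f : ℂ) with hφ
    set α : ℂ := 1 + A with hα
    have hφ0 : φ ≠ 0 := by
      rw [hφ]; exact_mod_cast (show 1 + f ≠ 0 by omega)
    set D : ℂ := φ - α with hD
    set Q : ℂ := ∑ ψ, (a ψ : ℂ) * (e ψ : ℂ) * (e ψ : ℂ) / x ψ with hQ
    have hterm : ∀ ψ, (a ψ : ℂ) * (y ψ * y ψ) / x ψ =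
        α * α / φ * ((a ψ * b ψ : ℤ) : ℂ) +
          (2 * α * φ - α * α) / (φ * φ) * ((a ψ * e ψ : ℤ) : ℂ) +
          D * D / (φ * φ) * ((a ψ : ℂ) * (e ψ : ℂ) * (e ψ : ℂ) / x ψ) := by
      intro ψ
      by_cases h0 : a ψ = 0
      · simp [h0]
      obtain ⟨e1, e2, -⟩ := hxy ψ (Or.inl h0)
      have e1' : x ψ = (a ψ : ℂ) + (b ψ : ℂ) * (φ - 1) := by
        rw [e1, show (T.β : G → ℂ) 1 = (f : ℂ) from hf1, hφ]; ring
      have e2' : y ψ = (a ψ : ℂ) + (b ψ : ℂ) * (α - 1) := by
        rw [e2, show (T.β : G → ℂ) t = A from hA.symm, hα]; ring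
      rw [hD, e2']
      simp only [hedef, Int.cast_mul, Int.cast_sub]
      field_simp [hx0 ψ]
      rw [e1']
      ring
    rw [Finset.sum_congr rfl fun ψ _ => hterm ψ, Finset.sum_add_distrib, Finset.sum_add_distrib,
      ← Finset.mul_sum, ← Finset.mul_sum, ← Finset.mul_sum, ← Int.cast_sum, ← Int.cast_sum,
      hab, hae, ← hQ] at hid
    have hDQ : D * D * (Q - 1) = 0 := by
      push_cast at hid
      field_simp at hid
      rw [hD] at hid ⊢
      linear_combination hid
    rcases mul_eq_zero.1 hDQ with h | h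
    · refine key ?_
      have h' := mul_self_eq_zero.1 h
      rw [hD, hφ, hα] at h'
      rw [hf1]
      linear_combination -h'
    obtain ⟨i, j, hij, hei, hej, hrest⟩ := exists_two e hee
    have hQ1 : Q = 1 := sub_eq_zero.1 h
    have hbe : b i * e i + b j * e j = -1 := by
      have h2 : ∑ ψ, b ψ * e ψ = -1 := by
        have h3 : ∀ ψ, b ψ * e ψ = a ψ * e ψ - e ψ * e ψ := fun ψ => by
          simp only [hedef]; ring
        rw [Finset.sum_congr rfl fun ψ _ => h3 ψ, Finset.sum_sub_distrib, hae, hee]; norm_num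
      rw [← h2, ← Finset.sum_subset (Finset.subset_univ {i, j}) fun k _ hk => by
        simp only [Finset.mem_insert, Finset.mem_singleton, not_or] at hk
        rw [hrest k hk.1 hk.2, mul_zero], Finset.sum_pair hij]
    have hdeg : ∀ k, (e k = 1 ∨ e k = -1) →
        x k = ((b k * ((f : ℤ) + 1) + e k : ℤ) : ℂ) ∧ 2 ≤ b k * ((f : ℤ) + 1) + e k := by
      intro k hk
      obtain ⟨e1, -, n, hn, en⟩ := hxy k (by
        simp only [hedef] at hk; omega)
      have h3 : x k = ((b k * ((f : ℤ) + 1) + e k : ℤ) : ℂ) := by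
        rw [e1, show (T.β : G → ℂ) 1 = (f : ℂ) from hf1]
        simp only [hedef]; push_cast; ring
      have h4 : ((b k * ((f : ℤ) + 1) + e k : ℤ)) = (n : ℤ) := by
        have := h3.symm.trans en; exact_mod_cast this
      exact ⟨h3, by omega⟩
    obtain ⟨hxi, hi2⟩ := hdeg i hei
    obtain ⟨hxj, hj2⟩ := hdeg j hej
    have hQ2 : (a i : ℂ) / x i + (a j : ℂ) / x j = 1 := by
      rw [← hQ1, hQ, ← Finset.sum_subset (Finset.subset_univ {i, j}) fun k _ hk => by
        simp only [Finset.mem_insert, Finset.mem_singleton, not_or] at hk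
        simp [hrest k hk.1 hk.2], Finset.sum_pair hij]
      rcases hei with e1 | e1 <;> rcases hej with e2 | e2 <;> simp [e1, e2]
    set X := b i * ((f : ℤ) + 1) + e i with hX
    set Y := b j * ((f : ℤ) + 1) + e j with hY
    have hXY : a i * Y + a j * X = X * Y := by
      have hX0 : (X : ℂ) ≠ 0 := Int.cast_ne_zero.2 (by omega)
      have hY0 : (Y : ℂ) ≠ 0 := Int.cast_ne_zero.2 (by omega)
      rw [hxi, hxj] at hQ2
      field_simp at hQ2
      have : ((a i * Y + a j * X : ℤ) : ℂ) = ((X * Y : ℤ) : ℂ) := by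
        push_cast; linear_combination hQ2
      exact_mod_cast this
    have hai : a i = b i + e i := by simp [hedef]
    have haj : a j = b j + e j := by simp [hedef]
    refine ⟨hδ, ?_⟩
    suffices hF : f = 1 by rw [hf1, hF, Nat.cast_one]
    have hfF : (1 : ℤ) ≤ (f : ℤ) := by exact_mod_cast hf
    rcases hei with e1 | e1 <;> rcases hej with e2 | e2 <;>
      rw [e1] at hai <;> rw [e2] at haj <;>
      simp only [hX, hY, e1, e2, hai, haj] at hXY hi2 hj2 hbe
    · exfalso
      have : 1 ≤ b i := by nlinarith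
      have : 1 ≤ b j := by nlinarith
      omega
    · have hb1 : 1 ≤ b i := by nlinarith
      have hbj : b j = b i + 1 := by linarith
      rw [hbj] at hXY
      have h5 : b i * (b i + 1) * ((f : ℤ) + 1) * ((f : ℤ) - 1) = 0 := by linear_combination -hXY
      have h6 : b i * (b i + 1) * ((f : ℤ) + 1) ≠ 0 := by positivity
      have := (mul_eq_zero.1 h5).resolve_left h6
      omega
    · have hb1 : 1 ≤ b j := by nlinarith
      have hbi : b i = b j + 1 := by linarith
      rw [hbi] at hXY
      have h5 : b j * (b j + 1) * ((f : ℤ) + 1) * ((f : ℤ) - 1) = 0 := by linear_combination -hXY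
      have h6 : b j * (b j + 1) * ((f : ℤ) + 1) ≠ 0 := by positivity
      have := (mul_eq_zero.1 h5).resolve_left h6
      omega
    · exfalso
      have : 1 ≤ b i := by nlinarith
      have : 1 ≤ b j := by nlinarith
      omega
  · -- `δ = -1`
    have he : E.e = -1 := by
      rcases E.e_sq with e | e
      · rw [e, hδ] at he1; omega
      · exact e
    have hf2 : 2 ≤ f := by rw [he, hδ] at he1; omega
    have hχ : ∀ χ ∈ E.Φ, ∀ g : G, ¬ p ∣ orderOf g →
        (χ : G → ℂ) g = (E.θ : G → ℂ) g - 1 := fun χ hχ g hg => by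
      rw [E.χ_reg χ hχ g hg, he, hδ]; push_cast; ring
    have hθχ : ∀ χ ∈ E.Φ, χ ≠ E.θ ∧ χ ≠ principal G := fun χ hm =>
      ⟨fun e => E.θ_not_mem (e ▸ hm), fun e => E.one_not_mem (e ▸ hm)⟩
    let T : Pair p M G :=
      { β := χ₀
        S₁ := {principal G, E.θ}
        S₂ := insert E.θ E.Φ
        β_mem := E.Φ_mem χ₀ hχ₀
        sub₁ := fun η hη => by
          simp only [Finset.mem_insert, Finset.mem_singleton] at hη
          rcases hη with rfl | rfl
          · exact mem_blockOf_self hM (principal G)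
          · exact E.θ_mem
        sub₂ := fun η hη => by
          rcases Finset.mem_insert.1 hη with rfl | h
          · exact E.θ_mem
          · exact E.Φ_mem η h
        sing₁ := fun g hg => by
          rw [Finset.sum_pair (Ne.symm E.θ_ne), hone, E.θ_sing g hg, hδ]; simp
        sing₂ := fun g hg => by
          rw [Finset.sum_insert E.θ_not_mem, E.sum_sing g hg, he, E.θ_sing g hg, hδ]; simp
        one_mem₁ := Finset.mem_insert_self _ _
        one_not_mem₂ := by simp [Ne.symm E.θ_ne, E.one_not_mem]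
        β_not_mem₁ := by simp [(hθχ χ₀ hχ₀).1, (hθχ χ₀ hχ₀).2]
        β_mem₂ := Finset.mem_insert_of_mem hχ₀
        span := fun r hr h1 h2 η hη => by
          set u := classInner r (principal G : G → ℂ) with hu
          set v := classInner r (E.θ : G → ℂ) with hv
          have hc : ∀ χ ∈ E.Φ, classInner r (χ : G → ℂ) = v - u := fun χ hmem => by
            rw [hu, hv, ← classInner_sub_right]
            exact classInner_eq_of_regular hr fun g hg => by
              rw [hχ χ hmem g hg, Pi.sub_apply, hone]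
          rw [classInner_sum_right, Finset.sum_pair (Ne.symm E.θ_ne), ← hu, ← hv] at h1
          rw [classInner_sum_right, Finset.sum_insert E.θ_not_mem, Finset.sum_congr rfl hc,
            Finset.sum_const, nsmul_eq_mul, ← hv] at h2
          have hne : (2 * (E.Φ.card : ℂ) + 1) ≠ 0 := by
            exact_mod_cast Nat.succ_ne_zero (2 * E.Φ.card)
          have hv0 : v = 0 :=
            (mul_eq_zero.1 (show (2 * (E.Φ.card : ℂ) + 1) * v = 0 by
              linear_combination h2 + (E.Φ.card : ℂ) * h1)).resolve_left hne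
          have hu0 : u = 0 := by rw [hv0, add_zero] at h1; exact h1
          simp only [Finset.mem_union, Finset.mem_insert, Finset.mem_singleton] at hη
          rcases hη with (rfl | rfl) | (rfl | h)
          · exact hu0
          · exact hv0
          · exact hv0
          · rw [hc η h, hv0, hu0, sub_zero]
        other := fun η hη h1 h2 => by
          simp only [Finset.mem_insert, Finset.mem_singleton, not_or] at h1 h2
          exact E.other η hη h1.1 h2.1 h2.2 }
    obtain ⟨a, b, haa, hab, -, x, y, hid, hx0, hxy⟩ := exists_coeffs c s.odd hM T ht2 htr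
    have hS11 : (T.S₁ ∩ T.S₁).card = 2 := by
      rw [Finset.inter_self]; exact Finset.card_pair (Ne.symm E.θ_ne)
    have hS12 : (T.S₁ ∩ T.S₂).card = 1 := by
      rw [show T.S₁ ∩ T.S₂ = {E.θ} from ?_, Finset.card_singleton]
      ext η
      simp only [T, Finset.mem_inter, Finset.mem_insert, Finset.mem_singleton]
      refine ⟨fun h => ?_, fun h => ⟨Or.inr h, Or.inl h⟩⟩
      rcases h with ⟨h1 | h1, h2⟩
      · rcases h2 with h2 | h2
        · exact h2
        · exact absurd (h1 ▸ h2) E.one_not_mem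
      · exact h1
    rw [hS11] at haa
    rw [hS12] at hab
    push_cast at haa hab
    have hR : ∑ η ∈ T.S₁, (η : G → ℂ) t * (η : G → ℂ) t / (η : G → ℂ) 1 =
        1 + A * A / (f : ℂ) := by
      show ∑ η ∈ ({principal G, E.θ} : Finset _), _ = _
      rw [Finset.sum_pair (Ne.symm E.θ_ne), hone, hone, hf1, ← hA]
      simp
    rw [hR] at hid
    set d : ℂ := (f : ℂ) - 1 with hd
    set B : ℂ := A - 1 with hB
    have hd0 : d ≠ 0 := by
      rw [hd, sub_ne_zero]; exact_mod_cast (show f ≠ 1 by omega)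
    have hf0 : (f : ℂ) ≠ 0 := Nat.cast_ne_zero.2 (by omega)
    have hβ1 : (T.β : G → ℂ) 1 = d := by
      show (χ₀ : G → ℂ) 1 = d
      rw [hχ χ₀ hχ₀ 1 h1r, hf1]
    have hβt : (T.β : G → ℂ) t = B := by
      show (χ₀ : G → ℂ) t = B
      rw [hχ χ₀ hχ₀ t htr]
    set Q : ℂ := ∑ ψ, (a ψ : ℂ) * (a ψ : ℂ) * (a ψ : ℂ) / x ψ with hQ
    have hterm : ∀ ψ, (a ψ : ℂ) * (y ψ * y ψ) / x ψ =
        B * B / d * ((a ψ * b ψ : ℤ) : ℂ) +
          (2 * B * d - B * B) / (d * d) * ((a ψ * a ψ : ℤ) : ℂ) +
          (d - B) * (d - B) / (d * d) * ((a ψ : ℂ) * (a ψ : ℂ) * (a ψ : ℂ) / x ψ) := by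
      intro ψ
      by_cases h0 : a ψ = 0
      · simp [h0]
      obtain ⟨e1, e2, -⟩ := hxy ψ (Or.inl h0)
      rw [hβ1] at e1
      rw [hβt] at e2
      rw [e2]
      push_cast
      field_simp [hx0 ψ]
      rw [e1]
      ring
    rw [Finset.sum_congr rfl fun ψ _ => hterm ψ, Finset.sum_add_distrib, Finset.sum_add_distrib,
      ← Finset.mul_sum, ← Finset.mul_sum, ← Finset.mul_sum, ← Int.cast_sum, ← Int.cast_sum,
      hab, haa, ← hQ] at hid
    have hAB : A = B + 1 := by rw [hB]; ring
    have hfd : (f : ℂ) = d + 1 := by rw [hd]; ring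
    have hd1 : d + 1 ≠ 0 := hfd ▸ hf0
    have hDQ : (d - B) * (d - B) * (Q * (d + 1) - (d + 2)) = 0 := by
      rw [hAB, hfd] at hid
      push_cast at hid
      field_simp at hid
      linear_combination hid
    rcases mul_eq_zero.1 hDQ with h | h
    · refine key ?_
      have h' := mul_self_eq_zero.1 h
      rw [hd, hB] at h'
      rw [hf1]
      linear_combination -h'
    exfalso
    obtain ⟨i, j, hij, hai, haj, hrest⟩ := exists_two a haa
    have hab' : a i * b i + a j * b j = 1 := by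
      rw [← hab, ← Finset.sum_subset (Finset.subset_univ {i, j}) fun k _ hk => by
        simp only [Finset.mem_insert, Finset.mem_singleton, not_or] at hk
        rw [hrest k hk.1 hk.2, zero_mul], Finset.sum_pair hij]
    have hdeg : ∀ k, (a k = 1 ∨ a k = -1) →
        x k = ((a k + b k * ((f : ℤ) - 1) : ℤ) : ℂ) ∧ 2 ≤ a k + b k * ((f : ℤ) - 1) := by
      intro k hk
      obtain ⟨e1, -, n, hn, en⟩ := hxy k (Or.inl (by omega))
      have h3 : x k = ((a k + b k * ((f : ℤ) - 1) : ℤ) : ℂ) := by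
        rw [e1, hβ1, hd]; push_cast; ring
      have h4 : ((a k + b k * ((f : ℤ) - 1) : ℤ)) = (n : ℤ) := by
        have := h3.symm.trans en; exact_mod_cast this
      exact ⟨h3, by omega⟩
    obtain ⟨hxi, hi2⟩ := hdeg i hai
    obtain ⟨hxj, hj2⟩ := hdeg j haj
    have hQ2 : Q = (a i : ℂ) / x i + (a j : ℂ) / x j := by
      rw [hQ, ← Finset.sum_subset (Finset.subset_univ {i, j}) fun k _ hk => by
        simp only [Finset.mem_insert, Finset.mem_singleton, not_or] at hk
        simp [hrest k hk.1 hk.2], Finset.sum_pair hij]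
      rcases hai with e1 | e1 <;> rcases haj with e2 | e2 <;> simp [e1, e2]
    set X := a i + b i * ((f : ℤ) - 1) with hX
    set Y := a j + b j * ((f : ℤ) - 1) with hY
    have hXY : (a i * Y + a j * X) * (f : ℤ) = ((f : ℤ) + 1) * (X * Y) := by
      have hX0 : (X : ℂ) ≠ 0 := Int.cast_ne_zero.2 (by omega)
      have hY0 : (Y : ℂ) ≠ 0 := Int.cast_ne_zero.2 (by omega)
      rw [hQ2, hxi, hxj, hd] at h
      field_simp at h
      have : (((a i * Y + a j * X) * (f : ℤ) : ℤ) : ℂ) =
          ((((f : ℤ) + 1) * (X * Y) : ℤ) : ℂ) := by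
        push_cast; linear_combination h
      exact_mod_cast this
    have hF2 : (2 : ℤ) ≤ (f : ℤ) := by exact_mod_cast hf2
    have hpos : 0 < ((f : ℤ) + 1) * (X * Y) :=
      mul_pos (by omega) (mul_pos (by omega) (by omega))
    rcases hai with e1 | e1 <;> rcases haj with e2 | e2 <;>
      simp only [hX, hY, e1, e2] at hXY hi2 hj2 hab' hpos
    · have : 1 ≤ b i := by nlinarith
      have : 1 ≤ b j := by nlinarith
      omega
    · have hbi : b i = b j + 1 := by linarith
      rw [hbi] at hXY hpos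
      nlinarith
    · have hbj : b j = b i + 1 := by linarith
      rw [hbj] at hXY hpos
      nlinarith
    · have : 1 ≤ b i := by nlinarith
      have : 1 ≤ b j := by nlinarith
      omega

end Cfsg.Lib.SmithTyrer
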