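import Mathlib
import Cfsg.Agent.SmithTyrer.Lifting
import Cfsg.Agent.Schur.Corestriction

/-!
# The central extension of a non-cyclic setup

Two independent homomorphisms from the Sylow subgroup to `ZMod p` give a cocycle whose
corestriction is non-trivial, as the commutator of two lifts shows.
-/

set_option autoImplicit false
set_option linter.unusedSectionVars false
set_option linter.style.haveILetI false

namespace Cfsg.Lib.SmithTyrer

open Cfsg.Lib.Schur.Corestriction
open scoped Classical commutatorElement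

universe u

/-- A non-cyclic finite abelian `p`-group has two independent homomorphisms to `ZMod p`. -/
lemma exists_two_homs {A : Type u} [CommGroup A] [Finite A] {p : ℕ} [hp : Fact p.Prime]
    (hA : IsPGroup p A) (hnc : ¬ IsCyclic A) :
    ∃ (a b : Additive A →+ ZMod p) (x y : A),
      a (Additive.ofMul x) * b (Additive.ofMul y) -
        a (Additive.ofMul y) * b (Additive.ofMul x) ≠ 0 := by
  obtain ⟨ι, hι, n, hn, ⟨e⟩⟩ := CommGroup.equiv_prod_multiplicative_zmod_of_finite A
  have hdvd : ∀ i, p ∣ n i := by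
    intro i
    set g : A := e.symm (Pi.mulSingle i (Multiplicative.ofAdd 1)) with hg
    have ho : orderOf g = n i := by
      rw [hg, MulEquiv.orderOf_eq,
        show (Pi.mulSingle i (Multiplicative.ofAdd 1) : ∀ k, Multiplicative (ZMod (n k))) =
          MonoidHom.mulSingle (fun k => Multiplicative (ZMod (n k))) i (Multiplicative.ofAdd 1)
          from rfl,
        orderOf_injective (MonoidHom.mulSingle (fun k => Multiplicative (ZMod (n k))) i)
          (fun _ _ h => Pi.mulSingle_injective i h), orderOf_ofAdd_eq_addOrderOf, ZMod.addOrderOf_one]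
    obtain ⟨k, hk⟩ := IsPGroup.iff_orderOf.1 hA g
    rw [ho] at hk
    rcases Nat.eq_zero_or_pos k with h0 | h0
    · rw [h0, pow_zero] at hk
      have := hn i
      omega
    · rw [hk]
      exact dvd_pow_self p h0.ne'
  have htwo : ∃ i j : ι, i ≠ j := by
    by_contra hc
    push Not at hc
    apply hnc
    refine (MulEquiv.isCyclic e).2 ?_
    by_cases hne : Nonempty ι
    · obtain ⟨i⟩ := hne
      refine ⟨⟨Pi.mulSingle i (Multiplicative.ofAdd 1), fun v => ?_⟩⟩
      obtain ⟨m, hm⟩ := ZMod.intCast_surjective (v i).toAdd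
      refine ⟨m, funext fun j => ?_⟩
      obtain rfl := hc i j
      show (Pi.mulSingle i (Multiplicative.ofAdd 1) : ∀ k, Multiplicative (ZMod (n k))) i ^ m = v i
      rw [Pi.mulSingle_eq_same, ← ofAdd_zsmul, zsmul_one, hm]
      rfl
    · haveI := not_nonempty_iff.1 hne
      exact isCyclic_of_subsingleton
  obtain ⟨i, j, hij⟩ := htwo
  let φ : ι → Additive A →+ ZMod p := fun k =>
    (ZMod.castHom (hdvd k) (ZMod p)).toAddMonoidHom.comp
      (MonoidHom.toAdditiveLeft ((Pi.evalMonoidHom _ k).comp e.toMonoidHom))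
  refine ⟨φ i, φ j, e.symm (Pi.mulSingle i (Multiplicative.ofAdd 1)),
    e.symm (Pi.mulSingle j (Multiplicative.ofAdd 1)), ?_⟩
  have hval : ∀ k l, φ k (Additive.ofMul (e.symm (Pi.mulSingle l (Multiplicative.ofAdd 1)))) =
      ZMod.castHom (hdvd k) (ZMod p)
        ((Pi.mulSingle l (Multiplicative.ofAdd 1) :
          ∀ m, Multiplicative (ZMod (n m))) k).toAdd := fun k l => by
    simp [φ]
  rw [hval, hval, hval, hval, Pi.mulSingle_eq_same, Pi.mulSingle_eq_same,
    Pi.mulSingle_eq_of_ne hij, Pi.mulSingle_eq_of_ne (Ne.symm hij)]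
  simp [ZMod.cast_one (hdvd i), ZMod.cast_one (hdvd j)]

variable {G : Type u} [Group G] [Fintype G] {p : ℕ} [hp : Fact p.Prime]
  {P : Sylow p G} {τ : G}

namespace Setup

variable (s : Setup P τ)

include s

/-- A homomorphism moving each element to itself or to its inverse does so uniformly. -/
lemma sign_uniform {W : Subgroup G} (hW : ∀ w ∈ W, w ∈ P) (g : G)
    (hg : ∀ w ∈ W, g * w * g⁻¹ ∈ P) :
    (∀ w ∈ W, g * w * g⁻¹ = w) ∨ ∀ w ∈ W, g * w * g⁻¹ = w⁻¹ := by
  by_contra hc
  push Not at hc
  obtain ⟨⟨u, hu, hu'⟩, ⟨v, hv, hv'⟩⟩ := hc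
  have eu := (s.fusion (hW u hu) (hg u hu)).resolve_left hu'
  have ev := (s.fusion (hW v hv) (hg v hv)).resolve_right hv'
  have e : g * (u * v) * g⁻¹ = u⁻¹ * v := by
    calc g * (u * v) * g⁻¹ = (g * u * g⁻¹) * (g * v * g⁻¹) := by group
      _ = u⁻¹ * v := by rw [eu, ev]
  rcases s.fusion (hW _ (mul_mem hu hv)) (hg _ (mul_mem hu hv)) with h | h
  · rw [e, mul_right_cancel_iff] at h
    have h1 : u = 1 := by
      by_contra h1
      exact s.inv_ne (hW u hu) h1 h
    rw [h1] at hu'
    simp at hu'
  · rw [e, mul_inv_rev, ← s.comm _ (inv_mem (hW u hu)) _ (inv_mem (hW v hv)),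
      mul_left_cancel_iff] at h
    have h1 : v = 1 := by
      by_contra h1
      exact s.inv_ne (hW v hv) h1 h.symm
    rw [h1] at hv'
    simp at hv'

/-- A transversal adapted to the action of the Sylow subgroup on its cosets. -/
lemma exists_adapted :
    ∃ (t : G ⧸ (P : Subgroup G) → G) (σ : G ⧸ (P : Subgroup G) → (P : Subgroup G))
      (ε : G ⧸ (P : Subgroup G) → Bool),
      (∀ i, (t i : G ⧸ (P : Subgroup G)) = i) ∧
      (∀ (x : (P : Subgroup G)) i, ε ((x : G) • i) = ε i) ∧
      ∀ (x : (P : Subgroup G)) i,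
        (t ((x : G) • i))⁻¹ * ((x : G) * t i) =
          if ε i then (((σ ((x : G) • i))⁻¹ * (x * σ i) : (P : Subgroup G)) : G)
          else (((σ ((x : G) • i))⁻¹ * (x * σ i) : (P : Subgroup G)) : G)⁻¹ := by
  let Q := MulAction.orbitRel.Quotient (P : Subgroup G) (G ⧸ (P : Subgroup G))
  let o : G ⧸ (P : Subgroup G) → Q := fun i => Quotient.mk'' i
  have hex : ∀ i, ∃ a : (P : Subgroup G), (a : G) • (o i).out = i := by
    intro i
    have h : (o i).out ∈ MulAction.orbit (P : Subgroup G) i :=
      MulAction.orbitRel_apply.mp (Quotient.mk_out i)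
    obtain ⟨a, ha⟩ := h
    refine ⟨a⁻¹, ?_⟩
    rw [← ha]
    show (a : G)⁻¹ • (a : G) • i = i
    rw [inv_smul_smul]
  choose σ hσ using hex
  let r : G ⧸ (P : Subgroup G) → G := fun i => (o i).out.out
  have ho : ∀ (x : (P : Subgroup G)) i, o ((x : G) • i) = o i := fun x i =>
    Quotient.sound' ⟨x, rfl⟩
  let W : Q → Subgroup G := fun q =>
    (P : Subgroup G) ⊓ MulAction.stabilizer G (q.out : G ⧸ (P : Subgroup G))
  have hW : ∀ q, ∀ w ∈ W q, q.out.out⁻¹ * w * q.out.out ∈ (P : Subgroup G) := by
    intro q w hw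
    have h := MulAction.mem_stabilizer_iff.1 (Subgroup.mem_inf.1 hw).2
    have e : ((w * q.out.out : G) : G ⧸ (P : Subgroup G)) = (q.out.out : G ⧸ (P : Subgroup G)) := by
      rw [← smul_eq_mul w]
      show w • ((q.out.out : G) : G ⧸ (P : Subgroup G)) = _
      rw [QuotientGroup.out_eq', h]
    have := QuotientGroup.eq.1 e.symm
    rwa [← mul_assoc] at this
  refine ⟨fun i => (σ i : G) * r i, σ, fun i => decide (∀ w ∈ W (o i), (r i)⁻¹ * w * r i = w),
    fun i => ?_, fun x i => ?_, fun x i => ?_⟩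
  · show (QuotientGroup.mk ((σ i : G) * r i) : G ⧸ (P : Subgroup G)) = i
    rw [← smul_eq_mul (σ i : G)]
    show (σ i : G) • ((r i : G) : G ⧸ (P : Subgroup G)) = i
    rw [QuotientGroup.out_eq', hσ]
  · simp only [r, ho]
  · set w : (P : Subgroup G) := (σ ((x : G) • i))⁻¹ * (x * σ i) with hwdef
    have hr : r ((x : G) • i) = r i := by simp only [r, ho]
    have hlhs : ((σ ((x : G) • i) : G) * r ((x : G) • i))⁻¹ * ((x : G) * ((σ i : G) * r i)) =
        (r i)⁻¹ * (w : G) * r i := by
      rw [hr, hwdef, Subgroup.coe_mul, Subgroup.coe_mul, Subgroup.coe_inv]; group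
    show ((σ ((x : G) • i) : G) * r ((x : G) • i))⁻¹ * ((x : G) * ((σ i : G) * r i)) = _
    rw [hlhs]
    have hwW : (w : G) ∈ W (o i) := by
      refine Subgroup.mem_inf.2 ⟨w.2, MulAction.mem_stabilizer_iff.2 ?_⟩
      have e := hσ ((x : G) • i)
      rw [ho] at e
      rw [hwdef, Subgroup.coe_mul, Subgroup.coe_mul, Subgroup.coe_inv, mul_smul, mul_smul, hσ,
        inv_smul_eq_iff, e]
    beta_reduce
    by_cases hd : ∀ v ∈ W (o i), (r i)⁻¹ * v * r i = v
    · rw [decide_eq_true hd]
      exact hd _ hwW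
    · rw [decide_eq_false hd]
      rcases s.sign_uniform (W := W (o i)) (fun v hv => (Subgroup.mem_inf.1 hv).1) (r i)⁻¹
        (fun v hv => by rw [inv_inv]; exact hW (o i) v hv) with h | h
      · exact absurd (fun v hv => by simpa using h v hv) hd
      · simpa using h _ hwW

/-- The commutator form of the corestricted cocycle. -/
lemma cor_sub (a b : Additive (P : Subgroup G) →+ ZMod p)
    (D : Datum (P : Subgroup G) (ZMod p))
    (hD : ∀ u v, D.f u v = a (Additive.ofMul u) * b (Additive.ofMul v))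
    {σ : G ⧸ (P : Subgroup G) → (P : Subgroup G)} {ε : G ⧸ (P : Subgroup G) → Bool}
    (hε : ∀ (x : (P : Subgroup G)) i, ε ((x : G) • i) = ε i)
    (hβ : ∀ (x : (P : Subgroup G)) i, beta D (x : G) i =
      if ε i then (σ ((x : G) • i))⁻¹ * (x * σ i) else ((σ ((x : G) • i))⁻¹ * (x * σ i))⁻¹)
    (x y : (P : Subgroup G)) :
    cor D (x : G) y - cor D (y : G) x =
      (Fintype.card (G ⧸ (P : Subgroup G)) : ZMod p) *
        (a (Additive.ofMul x) * b (Additive.ofMul y) -
          a (Additive.ofMul y) * b (Additive.ofMul x)) := by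
  set S : G ⧸ (P : Subgroup G) → ZMod p := fun i => a (Additive.ofMul (σ i)) with hS
  set T : G ⧸ (P : Subgroup G) → ZMod p := fun i => b (Additive.ofMul (σ i)) with hT
  have key : ∀ u v : (P : Subgroup G), cor D (u : G) v =
      (Fintype.card (G ⧸ (P : Subgroup G)) : ZMod p) *
          (a (Additive.ofMul u) * b (Additive.ofMul v)) +
        ((∑ i, S ((v : G) • i) * T i) - (∑ i, S i * T i) -
          (∑ i, S ((u : G) • (v : G) • i) * T i) + ∑ i, S ((u : G) • i) * T i) := by
    intro u v
    have hterm : ∀ i, D.f (beta D (u : G) ((v : G) • i)) (beta D (v : G) i) =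
        a (Additive.ofMul u) * b (Additive.ofMul v) +
          (a (Additive.ofMul u) * T i - a (Additive.ofMul u) * T ((v : G) • i)) +
          (b (Additive.ofMul v) * S ((v : G) • i) -
            b (Additive.ofMul v) * S ((u : G) • (v : G) • i)) +
          (S ((v : G) • i) * T i - S ((v : G) • i) * T ((v : G) • i) -
            S ((u : G) • (v : G) • i) * T i +
            S ((u : G) • (v : G) • i) * T ((v : G) • i)) := by
      intro i
      rw [hD, hβ, hβ, hε]
      cases ε i
      · simp only [Bool.false_eq_true, if_false, ofMul_inv, ofMul_mul, map_neg, map_add, hS, hT]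
        ring
      · simp only [if_true, ofMul_inv, ofMul_mul, map_neg, map_add, hS, hT]
        ring
    have perm : ∀ (w : (P : Subgroup G)) (F : G ⧸ (P : Subgroup G) → ZMod p),
        ∑ i, F ((w : G) • i) = ∑ i, F i := fun w F => Equiv.sum_comp (MulAction.toPerm (w : G)) F
    have p1 := perm v T
    have p2 := perm v fun i => S ((u : G) • i)
    have p3 := perm v fun i => S i * T i
    have p4 := perm v fun i => S ((u : G) • i) * T i
    have p5 := perm v S
    have p6 := perm u S
    show (∑ i, D.f (beta D (u : G) ((v : G) • i)) (beta D (v : G) i)) = _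
    simp only [hterm, Finset.sum_add_distrib, Finset.sum_sub_distrib, ← Finset.mul_sum,
      Finset.sum_const, Finset.card_univ, nsmul_eq_mul]
    rw [p1, p2, p3, p4, p5, p6]
    ring
  rw [key, key]
  have e : ∀ i : G ⧸ (P : Subgroup G), (x : G) • (y : G) • i = (y : G) • (x : G) • i := fun i => by
    rw [← mul_smul, ← mul_smul, s.comm _ x.2 _ y.2]
  simp only [e]
  ring

/-- The central extension. -/
theorem exists_cext (hnc : ¬ IsCyclic (P : Subgroup G)) :
    ∃ (H : Type u) (_ : Group H) (_ : Fintype H) (π : H →* G) (ζ : π.ker →* ℂˣ), CExt p π ζ := by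
  letI : CommGroup ↥(P : Subgroup G) := s.commGroup
  obtain ⟨a, b, x, y, hdet⟩ := exists_two_homs (A := ↥(P : Subgroup G)) P.2 hnc
  obtain ⟨t, σ, ε, ht, hε, hβ⟩ := s.exists_adapted
  let D : Datum (P : Subgroup G) (ZMod p) :=
    { f := fun u v => a (Additive.ofMul u) * b (Additive.ofMul v)
      cocycle := fun u v w => by
        show a (Additive.ofMul v) * b (Additive.ofMul w) +
          a (Additive.ofMul u) * b (Additive.ofMul (v * w)) = _
        rw [ofMul_mul, ofMul_mul, map_add, map_add]
        ring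
      left := fun u => by simp
      right := fun u => by simp
      s := t
      hs := ht }
  have hβ' : ∀ (z : (P : Subgroup G)) i, beta D (z : G) i =
      if ε i then (σ ((z : G) • i))⁻¹ * (z * σ i) else ((σ ((z : G) • i))⁻¹ * (z * σ i))⁻¹ :=
    fun z i => Subtype.ext (by
      show (t ((z : G) • i))⁻¹ * ((z : G) * t i) = _
      rw [hβ z i]
      cases ε i <;> simp)
  set c₀ := cor D (x : G) y - cor D (y : G) x with hc₀
  have hc : c₀ ≠ 0 := by
    rw [hc₀, s.cor_sub a b D (fun _ _ => rfl) hε hβ' x y]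
    refine mul_ne_zero (fun h => ?_) hdet
    rw [ZMod.natCast_eq_zero_iff, ← Nat.card_eq_fintype_card] at h
    exact P.not_dvd_index h
  letI : Fintype (Ext D) := Fintype.ofFinite _
  let χ : Multiplicative (ZMod p) →* ℂˣ :=
    ((ZMod.stdAddChar (N := p)).toMonoidHom).toHomUnits
  refine ⟨Ext D, inferInstance, inferInstance, proj D,
    χ.comp (kerEquiv D).symm.toMonoidHom,
    { surj := fun g => ⟨⟨0, g⟩, rfl⟩
      central := ker_le_center D
      pgroup := IsPGroup.of_card (n := 1) (by
        rw [← Nat.card_congr (kerEquiv D).toEquiv]; simp)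
      comm := ?_
      ne := fun h => ?_ }⟩
  · have hxy : (x : G) * y = y * x := s.comm _ x.2 _ y.2
    set z₀ : (proj D).ker := kerEquiv D (Multiplicative.ofAdd c₀) with hz₀
    have hz : (z₀ : Ext D) ∈ commutator (Ext D) := by
      have e : (z₀ : Ext D) = ⁅(Ext.mk (D := D) 0 (x : G)), (Ext.mk (D := D) 0 (y : G))⁆ := by
        rw [commutator_lifts D hxy]
        rfl
      rw [e]
      exact Subgroup.commutator_mem_commutator (Subgroup.mem_top _) (Subgroup.mem_top _)
    intro w hw
    obtain ⟨m, hm⟩ := ZMod.intCast_surjective (((kerEquiv D).symm ⟨w, hw⟩).toAdd * c₀⁻¹)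
    have hw' : (⟨w, hw⟩ : (proj D).ker) = z₀ ^ m := by
      rw [hz₀, ← map_zpow, ← MulEquiv.symm_apply_eq, ← ofAdd_zsmul]
      refine Multiplicative.toAdd.injective ?_
      rw [toAdd_ofAdd, zsmul_eq_mul, hm, mul_assoc, inv_mul_cancel₀ hc, mul_one]
    have h2 := congrArg Subtype.val hw'
    rw [SubgroupClass.coe_zpow] at h2
    rw [show w = (z₀ : Ext D) ^ m from h2]
    exact zpow_mem hz m
  · have h1 := DFunLike.congr_fun h (kerEquiv D (Multiplicative.ofAdd 1))
    simp only [MonoidHom.comp_apply, MulEquiv.coe_toMonoidHom, MulEquiv.symm_apply_apply,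
      MonoidHom.one_apply] at h1
    have h2 : ZMod.stdAddChar (N := p) 1 = ZMod.stdAddChar (N := p) 0 := by
      rw [AddChar.map_zero_eq_one]
      exact congrArg Units.val h1
    exact one_ne_zero (ZMod.injective_stdAddChar h2)

end Setup

end Cfsg.Lib.SmithTyrer
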