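import Mathlib
import Cfsg.Agent.SmithTyrer.Arithmetic
import Cfsg.Agent.SmithTyrer.Extension
import Cfsg.Agent.Blocks.Feit3

/-!
# The theorem of Smith and Tyrer

If an abelian non-cyclic Sylow subgroup for an odd prime is inverted by its normalizer, without
further automizer, and there is no non-trivial normal `p'`-subgroup, then the Sylow subgroup is
normal.
-/

set_option autoImplicit false
set_option linter.unusedSectionVars false
set_option linter.style.haveILetI false

namespace Cfsg.Lib.SmithTyrer

open Cfsg.Lib.Blocks Cfsg.Lib.Chars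
open scoped Classical

universe u

variable {G : Type u} [Group G] [Fintype G] {p : ℕ} [hp : Fact p.Prime]
  {P : Sylow p G} {τ : G}

/-- A non-cyclic `p`-group has order at least `p ^ 2`, and so at least `9` for odd `p`. -/
lemma nine_le_card (hodd : p ≠ 2) (hnc : ¬ IsCyclic (P : Subgroup G)) : 9 ≤ Nat.card P := by
  obtain ⟨k, hk⟩ := IsPGroup.iff_card.1 P.2
  rcases Nat.lt_or_ge k 2 with h | h
  · exfalso
    apply hnc
    interval_cases k
    · rw [pow_zero] at hk
      haveI : Subsingleton (P : Subgroup G) := (Nat.card_eq_one_iff_unique.1 hk).1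
      exact isCyclic_of_subsingleton
    · rw [pow_one] at hk
      exact isCyclic_of_prime_card (p := p) hk
  · have h3 : 3 ≤ p := by have := hp.out.two_le; omega
    calc 9 = 3 ^ 2 := by norm_num
      _ ≤ p ^ 2 := Nat.pow_le_pow_left h3 2
      _ ≤ p ^ k := Nat.pow_le_pow_right hp.out.pos h
      _ = Nat.card P := hk.symm

/-- With trivial `p'`-core, the Sylow subgroup is normal. -/
theorem Setup.sylow_normal (s : Setup P τ) (hnc : ¬ IsCyclic (P : Subgroup G))
    (hcore : ∀ N : Subgroup G, N.Normal → ¬ p ∣ Nat.card N → N = ⊥) :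
    (P : Subgroup G).Normal := by
  have hq := nine_le_card s.odd hnc
  obtain ⟨M, hM⟩ := exists_isPModular hp.out
  obtain ⟨E⟩ := s.exists_exc hM hq
  obtain ⟨H, _, _, π, ζ, c⟩ := s.exists_cext hnc
  obtain ⟨hδ, hθ1⟩ := E.degree_one s c hM hq hcore
  obtain ⟨f, hf⟩ := exists_hom_of_deg_one (isCharacter_of_irr E.θ.2) hθ1
  have hsing : ∀ g : G, p ∣ orderOf g → f g = 1 := fun g hg => Units.ext (by
    rw [← congrFun hf g, E.θ_sing g hg, hδ]; simp)
  -- the centralizer of the Sylow subgroup lies in the kernel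
  have hPf : ∀ x ∈ (P : Subgroup G), x ∈ f.ker := fun x hx => by
    obtain ⟨k, hk⟩ := s.orderOf_pow hx
    rcases Nat.eq_zero_or_pos k with h0 | h0
    · rw [h0, pow_zero, orderOf_eq_one_iff] at hk
      rw [hk]; exact one_mem _
    · exact hsing x (hk ▸ dvd_pow_self p h0.ne')
  obtain ⟨x₁, hx₁⟩ := exists_prime_orderOf_dvd_card' (G := (P : Subgroup G)) p (by
    obtain ⟨k, hk⟩ := IsPGroup.iff_card.1 P.2
    rcases Nat.eq_zero_or_pos k with h0 | h0
    · have h9 : 9 ≤ p ^ k := hk ▸ hq
      rw [h0] at h9
      norm_num at h9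
    · rw [hk]; exact dvd_pow_self p h0.ne')
  have hCf : ∀ n ∈ Subgroup.centralizer ((P : Subgroup G) : Set G), n ∈ f.ker := fun n hn => by
    by_cases hd : p ∣ orderOf n
    · exact hsing n hd
    · have hc : Commute (x₁ : G) n := Subgroup.mem_centralizer_iff.1 hn _ x₁.2
      have hx : orderOf (x₁ : G) = p := by rw [Subgroup.orderOf_coe, hx₁]
      have ho : orderOf ((x₁ : G) * n) = p * orderOf n := by
        rw [hc.orderOf_mul_eq_mul_orderOf_of_coprime
          (hx.symm ▸ (hp.out.coprime_iff_not_dvd.2 hd)), hx]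
      have h := hsing _ (ho ▸ dvd_mul_right p _)
      have hx0 : f (x₁ : G) = 1 := hPf _ x₁.2
      rwa [map_mul, hx0, one_mul] at h
  -- `τ` is not in the kernel
  have hτ : τ ∉ f.ker := fun hτ => by
    have hN : Subgroup.normalizer ((P : Subgroup G) : Set G) ≤ f.ker := fun n hn => by
      rcases s.norm n hn with h | h
      · exact hCf n h
      · have := mul_mem hτ (hCf _ h)
        rwa [mul_inv_cancel_left] at this
    have htop := Sylow.normalizer_sup_eq_top' P (N := f.ker) hPf
    rw [sup_eq_right.2 (by exact hN)] at htop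
    refine E.θ_ne (Subtype.ext (funext fun g => ?_))
    rw [congrFun hf g, show (principal G : G → ℂ) g = 1 from rfl]
    have hg : f g = 1 := MonoidHom.mem_ker.1 (htop ▸ Subgroup.mem_top g)
    rw [hg, Units.val_one]
  -- the complement in the kernel
  have hPK : (P : Subgroup G) ≤ f.ker := hPf
  let P' : Sylow p f.ker := P.subtype hPK
  have hP' : (P' : Subgroup f.ker) = (P : Subgroup G).subgroupOf f.ker := Sylow.coe_subtype P hPK
  have hNC : Subgroup.normalizer ((P' : Subgroup f.ker) : Set f.ker) ≤
      Subgroup.centralizer ((P' : Subgroup f.ker) : Set f.ker) := by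
    intro n hn
    rw [hP'] at hn ⊢
    have hn' : (n : G) ∈ Subgroup.normalizer ((P : Subgroup G) : Set G) := by
      rw [Subgroup.mem_normalizer_iff]
      intro y
      constructor
      · intro hy
        exact (Subgroup.mem_normalizer_iff.1 hn ⟨y, hPK hy⟩).1 hy
      · intro hy
        have hyK : y ∈ f.ker := by
          have := mul_mem (mul_mem (inv_mem n.2) (hPK hy)) n.2
          simpa [mul_assoc] using this
        exact (Subgroup.mem_normalizer_iff.1 hn ⟨y, hyK⟩).2 hy
    rcases s.norm _ hn' with h | h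
    · rw [Subgroup.mem_centralizer_iff]
      exact fun y hy => Subtype.ext (Subgroup.mem_centralizer_iff.1 h (y : G) hy)
    · exfalso
      apply hτ
      have h1 := mul_mem n.2 (inv_mem (hCf _ h))
      simpa using h1
  set K := (MonoidHom.transferSylow P' hNC).ker with hK
  have hcompl : K.IsComplement' (P' : Subgroup f.ker) :=
    MonoidHom.ker_transferSylow_isComplement' P' hNC
  have hKcop : ¬ p ∣ Nat.card K := MonoidHom.not_dvd_card_ker_transferSylow P' hNC
  have hmemK : ∀ v : f.ker, v ∈ K ↔ ¬ p ∣ orderOf v := fun v => by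
    constructor
    · intro hv hd
      exact hKcop (hd.trans (Subgroup.orderOf_dvd_natCard K hv))
    · intro hv
      have h2 : orderOf (MonoidHom.transferSylow P' hNC v) ∣ orderOf v := orderOf_map_dvd _ v
      obtain ⟨k, hk⟩ := IsPGroup.iff_orderOf.1 P'.2 (MonoidHom.transferSylow P' hNC v)
      rw [hk] at h2
      rcases Nat.eq_zero_or_pos k with h0 | h0
      · rw [h0, pow_zero, orderOf_eq_one_iff] at hk
        exact hk
      · exact absurd ((dvd_pow_self p h0.ne').trans h2) hv
  have hKn : (K.map f.ker.subtype).Normal := by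
    refine ⟨fun x hx g => ?_⟩
    obtain ⟨v, hv, rfl⟩ := Subgroup.mem_map.1 hx
    have hker : f.ker.Normal := inferInstance
    refine Subgroup.mem_map.2 ⟨⟨g * (v : G) * g⁻¹, hker.conj_mem _ v.2 g⟩, ?_, rfl⟩
    rw [hmemK, Subgroup.orderOf_mk, show g * (v : G) * g⁻¹ = MulAut.conj g (v : G) by simp,
      MulEquiv.orderOf_eq, Subgroup.orderOf_coe]
    exact (hmemK v).1 hv
  have hK1 : K = ⊥ := by
    have h := hcore _ hKn (by
      rwa [Subgroup.card_map_of_injective f.ker.subtype_injective])
    exact (Subgroup.map_eq_bot_iff_of_injective _ f.ker.subtype_injective).1 h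
  have htop : (P' : Subgroup f.ker) = ⊤ := Subgroup.isComplement'_bot_left.1 (hK1 ▸ hcompl)
  have hPeq : (P : Subgroup G) = f.ker := le_antisymm hPK fun g hg => by
    have h : (⟨g, hg⟩ : f.ker) ∈ (P' : Subgroup f.ker) := htop ▸ Subgroup.mem_top _
    rw [hP', Subgroup.mem_subgroupOf] at h
    exact h
  rw [hPeq]
  infer_instance

end Cfsg.Lib.SmithTyrer
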